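import Cfsg.Agent.Lib.BaseThree.Basic
import Cfsg.Agent.Lib.Solvable.MinNormal

/-!
A solvable permutation group has a regular orbit on colourings with five colours, given bases of size three
for smaller linear groups.
-/

set_option autoImplicit false
set_option linter.unusedSectionVars false
set_option linter.style.haveILetI false

namespace CfsgLib.BaseThree

open CfsgLib.BaseTwo (Inv CROn)

universe u

variable {A Ω : Type u} [Group A] [Finite A] [Finite Ω] [MulAction A Ω]

theorem exists_col_of_invariant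
    (ih : ∀ (Ω' : Type u) [Finite Ω'] [MulAction A Ω'], Nat.card Ω' < Nat.card Ω →
      ∃ c : Ω' → Fin 5, ∀ a : A, (∀ x, c (a • x) = c x) → ∀ x : Ω', a • x = x)
    (P : SubMulAction A Ω) (h1 : ∃ x, x ∈ P) (h2 : ∃ x, x ∉ P) :
    ∃ c : Ω → Fin 5, ∀ a : A, (∀ x, c (a • x) = c x) → ∀ x : Ω, a • x = x := by
  classical
  let P' : SubMulAction A Ω :=
    { carrier := {x | x ∉ P}
      smul_mem' := fun a x hx h => hx ((P.smul_mem_iff' (g := a)).1 h) }
  obtain ⟨c₁, hc₁⟩ := ih P (Finite.card_subtype_lt (x := h2.choose) h2.choose_spec)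
  obtain ⟨c₂, hc₂⟩ := ih P' (Finite.card_subtype_lt (x := h1.choose) (fun h => h h1.choose_spec))
  refine ⟨fun x => if h : x ∈ P then c₁ ⟨x, h⟩ else c₂ ⟨x, h⟩, fun a ha x => ?_⟩
  by_cases hx : x ∈ P
  · refine congrArg Subtype.val (hc₁ a (fun y => ?_) ⟨x, hx⟩)
    have h := ha (y : Ω)
    have hy : a • (y : Ω) ∈ P := P.smul_mem a y.2
    simp only [dif_pos hy, dif_pos y.2] at h
    exact h
  · refine congrArg Subtype.val (hc₂ a (fun y => ?_) (⟨x, hx⟩ : P'))
    have h := ha (y : Ω)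
    have hy : a • (y : Ω) ∉ P := P'.smul_mem a y.2
    have hy' : (y : Ω) ∉ P := y.2
    simp only [dif_neg hy, dif_neg hy'] at h
    exact h

/-- the regular abelian case -/
theorem exists_col_regular {N : ℕ} (hA : Group.IsSolvable A) (hcard : Nat.card A ≤ N) (hL : LinHyp3.{u} (N - 1))
    (hfaith : ∀ a : A, (∀ x : Ω, a • x = x) → a = 1) (M : Subgroup A) [hMn : M.Normal] (hM : M ≠ ⊥)
    (hMc : ∀ x ∈ M, ∀ y ∈ M, x * y = y * x)
    (hmin : ∀ K : Subgroup A, K.Normal → K ≤ M → K = ⊥ ∨ K = M) (ω : Ω)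
    (htr : ∀ x : Ω, ∃ m ∈ M, m • ω = x) :
    ∃ c : Ω → Fin 5, ∀ a : A, (∀ x, c (a • x) = c x) → ∀ x : Ω, a • x = x := by
  classical
  have reg : ∀ m ∈ M, m • ω = ω → m = 1 := fun m hm h => hfaith m fun x => by
    obtain ⟨k, hk, rfl⟩ := htr x
    rw [← mul_smul, hMc m hm k hk, mul_smul, h]
  have inj : ∀ m ∈ M, ∀ k ∈ M, m • ω = k • ω → m = k := fun m hm k hk h =>
    (inv_mul_eq_one.1 (reg (k⁻¹ * m) (mul_mem (inv_mem hk) hm) (by rw [mul_smul, h, inv_smul_smul]))).symm
  have hfix : ∀ {a : A}, a • ω = ω → ∀ m : A, (a * m * a⁻¹) • ω = a • m • ω := fun {a} ha m => by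
    have h : a⁻¹ • ω = ω := inv_smul_eq_iff.2 ha.symm
    rw [mul_smul, mul_smul, h]
  let H := MulAction.stabilizer A ω
  letI : CommGroup M := { (inferInstance : Group M) with mul_comm := fun x y => Subtype.ext (hMc x x.2 y y.2) }
  letI : DistribMulAction H (Additive M) :=
    { smul := fun a x => Additive.ofMul ⟨(a : A) * (x.toMul : M) * (a : A)⁻¹, hMn.conj_mem _ x.toMul.2 _⟩
      one_smul := fun x => Additive.toMul.injective (Subtype.ext (show (1 : A) * _ * (1 : A)⁻¹ = _ by simp))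
      mul_smul := fun a b x => Additive.toMul.injective (Subtype.ext
        (show ((a : A) * b) * _ * ((a : A) * b)⁻¹ = (a : A) * ((b : A) * _ * (b : A)⁻¹) * (a : A)⁻¹ by group))
      smul_zero := fun a => Additive.toMul.injective (Subtype.ext
        (show (a : A) * (1 : A) * (a : A)⁻¹ = 1 by group))
      smul_add := fun a x y => Additive.toMul.injective (Subtype.ext
        (show (a : A) * ((x.toMul : M) * (y.toMul : M) : A) * (a : A)⁻¹ =
          ((a : A) * (x.toMul : M) * (a : A)⁻¹) * ((a : A) * (y.toMul : M) * (a : A)⁻¹) by group)) }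
  have hHlt : Nat.card H ≤ N - 1 := by
    have hne : H ≠ ⊤ := fun e => hM ((Subgroup.eq_bot_iff_forall _).2 fun m hm => reg m hm
      (show m ∈ H by rw [e]; trivial))
    have hlt : Nat.card H < Nat.card A :=
      lt_of_le_of_ne (Subgroup.card_le_card_group H) fun e => hne ((Subgroup.card_eq_iff_eq_top H).1 e)
    omega
  have hcr : CROn (⊤ : Subgroup H) (⊤ : AddSubgroup (Additive M)) := by
    intro U _ hU
    let U₀ : Subgroup A := (U.toSubgroup').map M.subtype
    have hU₀M : U₀ ≤ M := by rintro _ ⟨x, -, rfl⟩; exact x.2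
    have hmem : ∀ x : M, (x : A) ∈ U₀ ↔ Additive.ofMul x ∈ U := fun x => by
      constructor
      · rintro ⟨y, hy, e⟩
        rw [show y = x from Subtype.ext e] at hy
        exact hy
      · exact fun h => ⟨x, h, rfl⟩
    have hn : U₀.Normal := ⟨fun n hn g => by
      obtain ⟨m, hm, hmg⟩ := htr (g • ω)
      have hh : m⁻¹ * g ∈ H := by
        rw [MulAction.mem_stabilizer_iff, mul_smul, ← hmg, inv_smul_smul]
      have hnM := hU₀M hn
      have h1 : (m⁻¹ * g) * n * (m⁻¹ * g)⁻¹ ∈ U₀ := by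
        have := hU (⟨m⁻¹ * g, hh⟩ : H) trivial (Additive.ofMul ⟨n, hnM⟩) ((hmem ⟨n, hnM⟩).1 hn)
        exact (hmem ⟨_, hMn.conj_mem n hnM _⟩).2 this
      have h2 : g * n * g⁻¹ = (m⁻¹ * g) * n * (m⁻¹ * g)⁻¹ := by
        have hc := hMc m hm _ (hMn.conj_mem n hnM (m⁻¹ * g))
        calc g * n * g⁻¹ = m * ((m⁻¹ * g) * n * (m⁻¹ * g)⁻¹) * m⁻¹ := by group
          _ = _ := by rw [hc]; group
      rw [h2]; exact h1⟩
    have hcases : U = ⊥ ∨ U = ⊤ := by
      rcases hmin U₀ hn hU₀M with h | h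
      · refine Or.inl ((AddSubgroup.eq_bot_iff_forall _).2 fun x hx => ?_)
        have h' : ((x.toMul : M) : A) ∈ U₀ := (hmem _).2 hx
        rw [h, Subgroup.mem_bot] at h'
        exact Additive.toMul.injective (Subtype.ext h')
      · refine Or.inr (eq_top_iff.2 fun x _ => (hmem x.toMul).1 ?_)
        rw [h]; exact x.toMul.2
    rcases hcases with rfl | rfl
    · exact ⟨⊤, le_rfl, fun _ _ _ _ => trivial, bot_inf_eq _, bot_sup_eq _⟩
    · exact ⟨⊥, bot_le, fun a _ x hx => by rw [AddSubgroup.mem_bot] at hx ⊢; rw [hx, smul_zero],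
        inf_bot_eq _, sup_bot_eq _⟩
  obtain ⟨t, -, hb⟩ := hL H (Additive M) (solvable_subgroup hA H) hHlt hcr
  let p : Fin 3 → Ω := fun i => ((t i).toMul : A) • ω
  let c : Ω → Fin 5 := fun x =>
    if x = ω then 0 else if x = p 0 then 1 else if x = p 1 then 2 else if x = p 2 then 3 else 4
  refine ⟨c, fun a ha => ?_⟩
  have hω : a • ω = ω := by
    have h := ha ω
    simp only [c, if_pos rfl] at h
    by_contra hne
    split_ifs at h <;> first | contradiction | exact absurd h (by decide)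
  have hfx : ∀ x : Ω, x = ω ∨ (∃ i, x = p i) → a • x = x := by
    intro x hx
    rcases hx with rfl | ⟨i, rfl⟩
    · exact hω
    have h := ha (p i)
    by_contra hne
    have e0 : p i ≠ ω := fun e => hne (by rw [e, hω])
    have e0' : a • p i ≠ ω := fun e => e0 (smul_left_cancel a (e.trans hω.symm))
    fin_cases i <;> simp only [c, if_neg e0, if_neg e0'] at h <;>
      split_ifs at h <;> simp_all <;> exact absurd h (by decide)
  have e : ∀ m ∈ M, a • m • ω = m • ω → a * m * a⁻¹ = m := fun m hm h =>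
    inj _ (hMn.conj_mem m hm a) m hm (by rw [hfix hω, h])
  have h := hb ⟨a, hω⟩ trivial fun i => Additive.toMul.injective
    (Subtype.ext (e _ (t i).toMul.2 (hfx (p i) (Or.inr ⟨i, rfl⟩))))
  intro x
  obtain ⟨m, hm, rfl⟩ := htr x
  have hx : a * m * a⁻¹ = m :=
    congrArg (fun z : Additive M => ((z.toMul : M) : A)) (h (Additive.ofMul ⟨m, hm⟩) trivial)
  rw [← hfix hω, hx]

theorem alternating_moves : ∀ i : Fin 5, ∃ π : Equiv.Perm (Fin 5), Equiv.Perm.sign π = 1 ∧ π i ≠ i :=
  fun i => ⟨finRotate 5, by decide, by revert i; decide⟩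

/-- the block case -/
theorem exists_col_blocks {N : ℕ} (hA : Group.IsSolvable A) (hcard : Nat.card A ≤ N)
    (hG : ∀ m < N, ColHyp.{u} m)
    (ih : ∀ (Ω' : Type u) [Finite Ω'] [MulAction A Ω'], Nat.card Ω' < Nat.card Ω →
      ∃ c : Ω' → Fin 5, ∀ a : A, (∀ x, c (a • x) = c x) → ∀ x : Ω', a • x = x)
    {Ω' : Type u} [Finite Ω'] [MulAction A Ω'] (f : Ω → Ω') (hf : ∀ (a : A) x, f (a • x) = a • f x)
    (hsurj : Function.Surjective f) (htr : ∀ x y : Ω, ∃ a : A, a • x = y) (hninj : ¬ Function.Injective f)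
    (hnc : ∃ x y, f x ≠ f y) :
    ∃ c : Ω → Fin 5, ∀ a : A, (∀ x, c (a • x) = c x) → ∀ x : Ω, a • x = x := by
  classical
  haveI := Fintype.ofFinite Ω
  haveI := Fintype.ofFinite Ω'
  have hlt : Nat.card Ω' < Nat.card Ω := by
    rw [Nat.card_eq_fintype_card, Nat.card_eq_fintype_card]
    refine lt_of_le_of_ne (Fintype.card_le_of_surjective f hsurj) fun e => hninj ?_
    exact ((Fintype.bijective_iff_surjective_and_card f).2 ⟨hsurj, e.symm⟩).1
  obtain ⟨c', hc'⟩ := ih Ω' hlt
  obtain ⟨ω, z, hωz⟩ := hnc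
  let i₀ := f ω
  let H := MulAction.stabilizer A i₀
  have htr' : ∀ i : Ω', ∃ a : A, a • i₀ = i := fun i => by
    obtain ⟨x, rfl⟩ := hsurj i
    obtain ⟨a, rfl⟩ := htr ω x
    exact ⟨a, (hf a ω).symm⟩
  choose t ht using htr'
  have hHlt : Nat.card H < N := by
    have hne : H ≠ ⊤ := fun e => hωz (by
      obtain ⟨a, rfl⟩ := htr ω z
      rw [hf]
      exact (show a ∈ H by rw [e]; trivial : a • i₀ = i₀).symm)
    have hlt : Nat.card H < Nat.card A :=
      lt_of_le_of_ne (Subgroup.card_le_card_group H) fun e => hne ((Subgroup.card_eq_iff_eq_top H).1 e)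
    omega
  let B := {x : Ω // f x = i₀}
  letI : MulAction H B :=
    { smul := fun a x => ⟨(a : A) • (x : Ω), by rw [hf, x.2]; exact a.2⟩
      one_smul := fun x => Subtype.ext (one_smul A (x : Ω))
      mul_smul := fun a b x => Subtype.ext (mul_smul (a : A) b (x : Ω)) }
  obtain ⟨c₀, hc₀⟩ := hG (Nat.card H) hHlt H B (solvable_subgroup hA H) le_rfl
  let z₀ : B := ⟨ω, rfl⟩
  letI : MulAction H (B → Fin 5) :=
    { smul := fun h c x => c (h⁻¹ • x)
      one_smul := fun c => funext fun x => show c ((1 : H)⁻¹ • x) = c x by rw [inv_one, one_smul]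
      mul_smul := fun a b c => funext fun x =>
        show c ((a * b)⁻¹ • x) = c (b⁻¹ • a⁻¹ • x) by rw [mul_inv_rev, mul_smul] }
  letI : MulAction (alternatingGroup (Fin 5)) (B → Fin 5) :=
    { smul := fun π c x => (π : Equiv.Perm (Fin 5)) (c x)
      one_smul := fun c => rfl
      mul_smul := fun a b c => rfl }
  have hstab : MulAction.stabilizer H c₀ = (MulAction.toPermHom H B).ker := by
    ext h
    rw [MulAction.mem_stabilizer_iff, MonoidHom.mem_ker]
    constructor
    · intro e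
      refine Equiv.ext fun x => hc₀ h (fun y => ?_) x
      have e' : c₀ (h⁻¹ • h • y) = c₀ (h • y) := congrFun e (h • y)
      rw [inv_smul_smul] at e'
      exact e'.symm
    · intro e
      funext x
      have hx : h • (h⁻¹ • x) = h⁻¹ • x := congrArg (fun p : Equiv.Perm B => p (h⁻¹ • x)) e
      rw [smul_inv_smul] at hx
      show c₀ (h⁻¹ • x) = c₀ x
      rw [← hx]
  have hperf : commutator (alternatingGroup (Fin 5)) = ⊤ :=
    commutator_alternatingGroup_eq_top (by rw [Nat.card_eq_fintype_card, Fintype.card_fin])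
  haveI : Finite (B → Fin 5) := Pi.finite
  obtain ⟨π₁, hπ1, hπ2⟩ := alternating_moves (c₀ z₀)
  obtain ⟨F, hF⟩ := exists_five (P := alternatingGroup (Fin 5)) (H := H)
    (fun π h c => funext fun x => rfl) hperf (solvable_subgroup hA H) c₀
    (hstab ▸ inferInstance) ⟨⟨π₁, Equiv.Perm.mem_alternatingGroup.2 hπ1⟩, fun e => hπ2 (congrFun e z₀)⟩
  have hback : ∀ x, f ((t (f x))⁻¹ • x) = i₀ := fun x => by
    rw [hf, inv_smul_eq_iff, ht]
  let col : Ω → B := fun x => ⟨_, hback x⟩
  refine ⟨fun x => (F (c' (f x)) : Equiv.Perm (Fin 5)) (c₀ (col x)), fun a ha => ?_⟩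
  have hmem : ∀ i, (t (a • i))⁻¹ * a * t i ∈ H := fun i => by
    rw [MulAction.mem_stabilizer_iff, mul_smul, mul_smul, ht, inv_smul_eq_iff, ht]
  have hcol : ∀ i (x : B), col (a • t i • (x : Ω)) = (⟨_, hmem i⟩ : H) • x ∧ f (a • t i • (x : Ω)) = a • i ∧
      col (t i • (x : Ω)) = x ∧ f (t i • (x : Ω)) = i := by
    intro i x
    have e1 : f (t i • (x : Ω)) = i := by rw [hf, x.2, ht]
    have e2 : f (a • t i • (x : Ω)) = a • i := by rw [hf, e1]
    refine ⟨Subtype.ext ?_, e2, Subtype.ext ?_, e1⟩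
    · show (t (f _))⁻¹ • a • t i • (x : Ω) = ((t (a • i))⁻¹ * a * t i) • (x : Ω)
      rw [e2, mul_smul, mul_smul]
    · show (t (f _))⁻¹ • t i • (x : Ω) = x
      rw [e1, inv_smul_smul]
  have hkey : ∀ i (x : B), (F (c' (a • i)) : Equiv.Perm (Fin 5)) (c₀ ((⟨_, hmem i⟩ : H) • x)) =
      (F (c' i) : Equiv.Perm (Fin 5)) (c₀ x) := fun i x => by
    have h := ha (t i • (x : Ω))
    obtain ⟨c1, c2, c3, c4⟩ := hcol i x
    simp only [c1, c2, c3, c4] at h
    exact h
  have hlab : ∀ i, c' (a • i) = c' i := fun i => by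
    refine (hF _ _ ⟨_, hmem i⟩ (funext fun x => ?_)).symm
    have h := hkey i ((⟨_, hmem i⟩ : H)⁻¹ • x)
    rw [smul_inv_smul] at h
    exact h.symm
  have hfix := hc' a hlab
  intro x
  obtain ⟨y, hy⟩ : ∃ y : B, t (f x) • (y : Ω) = x := ⟨col x, smul_inv_smul _ _⟩
  have h0 := hc₀ ⟨_, hmem (f x)⟩ (fun z => by
    have h := hkey (f x) z
    rw [hlab] at h
    exact (F (c' (f x)) : Equiv.Perm (Fin 5)).injective h) y
  have h1 : ((t (a • f x))⁻¹ * a * t (f x)) • (y : Ω) = y := congrArg Subtype.val h0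
  rw [hfix, mul_smul, mul_smul, inv_smul_eq_iff, hy] at h1
  exact h1

/-- the step -/
theorem colHyp_step {N : ℕ} (hL : LinHyp3.{u} (N - 1)) (hG : ∀ m < N, ColHyp.{u} m) : ColHyp.{u} N := by
  intro A Ω _ _ _ _ hA hcard
  obtain ⟨n, hn⟩ : ∃ n, Nat.card Ω = n := ⟨_, rfl⟩
  induction n using Nat.strong_induction_on generalizing Ω with
  | _ n ih =>
    classical
    have ih' : ∀ (Ω' : Type u) [Finite Ω'] [MulAction A Ω'], Nat.card Ω' < Nat.card Ω →
        ∃ c : Ω' → Fin 5, ∀ a : A, (∀ x, c (a • x) = c x) → ∀ x : Ω', a • x = x :=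
      fun Ω' _ _ h => ih _ (hn ▸ h) Ω' rfl
    by_cases htriv : ∀ (a : A) (x : Ω), a • x = x
    · exact ⟨fun _ => 0, fun a _ x => htriv a x⟩
    push Not at htriv
    obtain ⟨a₀, ω, ha₀⟩ := htriv
    by_cases htr : ∀ x : Ω, ∃ a : A, a • ω = x
    swap
    · exact exists_col_of_invariant ih'
        { carrier := MulAction.orbit A ω, smul_mem' := fun a x hx => MulAction.mem_orbit_of_mem_orbit a hx }
        ⟨ω, MulAction.mem_orbit_self ω⟩ (by
          push Not at htr
          obtain ⟨x, hx⟩ := htr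
          exact ⟨x, fun ⟨a, ha⟩ => hx a ha⟩)
    have htr2 : ∀ x y : Ω, ∃ a : A, a • x = y := fun x y => by
      obtain ⟨a, rfl⟩ := htr x
      obtain ⟨b, rfl⟩ := htr y
      exact ⟨b * a⁻¹, by rw [mul_smul, inv_smul_smul]⟩
    let φ := MulAction.toPermHom A Ω
    haveI := hA
    by_cases hfaith : ∀ a : A, (∀ x : Ω, a • x = x) → a = 1
    swap
    · push Not at hfaith
      obtain ⟨b, hb, hb1⟩ := hfaith
      have hlt : Nat.card φ.range < N := by
        have h1 : φ.ker ≠ ⊥ := fun e => hb1 (by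
          have : b ∈ φ.ker := Equiv.ext hb
          rwa [e, Subgroup.mem_bot] at this)
        have h2 := φ.ker.card_eq_card_quotient_mul_card_subgroup
        rw [Nat.card_congr (QuotientGroup.quotientKerEquivRange φ).toEquiv] at h2
        have h3 : 1 < Nat.card φ.ker := (Subgroup.one_lt_card_iff_ne_bot _).2 h1
        have h4 : 0 < Nat.card φ.range := Nat.card_pos
        have h5 : Nat.card φ.range * 1 < Nat.card φ.range * Nat.card φ.ker := Nat.mul_lt_mul_of_pos_left h3 h4
        omega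
      obtain ⟨c, hc⟩ := hG _ hlt φ.range Ω (Group.isSolvable_of_surjective φ.rangeRestrict_surjective) le_rfl
      exact ⟨c, fun a ha x => hc ⟨φ a, a, rfl⟩ ha x⟩
    haveI : Nontrivial A := ⟨⟨a₀, 1, fun e => ha₀ (by rw [e, one_smul])⟩⟩
    obtain ⟨M, hMn, hM, hmin⟩ := CfsgLib.Solvable.exists_minimal_normal (G := A)
    haveI := hMn
    have hMc := CfsgLib.Solvable.isMulCommutative_of_minimal_normal hM hmin
    have hMc' : ∀ x ∈ M, ∀ y ∈ M, x * y = y * x := fun x hx y hy =>
      congrArg Subtype.val (hMc.is_comm.comm (⟨x, hx⟩ : M) ⟨y, hy⟩)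
    by_cases hMt : ∀ x : Ω, ∃ m ∈ M, m • ω = x
    · exact exists_col_regular hA hcard hL hfaith M hM hMc' hmin ω hMt
    letI setoidM : Setoid Ω := MulAction.orbitRel M Ω
    let Ω' := Quotient setoidM
    letI : MulAction A Ω' :=
      { smul := fun a => Quotient.map (fun x => a • x) fun x y h => by
          obtain ⟨m, hm⟩ := h
          refine ⟨⟨a * (m : A) * a⁻¹, hMn.conj_mem _ m.2 a⟩, ?_⟩
          show (a * (m : A) * a⁻¹) • a • y = a • x
          rw [mul_smul, mul_smul, inv_smul_smul, ← show (m : A) • y = x from hm]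
        one_smul := fun i => Quotient.inductionOn i fun x => congrArg (Quotient.mk _) (one_smul A x)
        mul_smul := fun a b i => Quotient.inductionOn i fun x => congrArg (Quotient.mk _) (mul_smul a b x) }
    haveI : Finite Ω' := Quotient.finite _
    refine exists_col_blocks hA hcard hG ih' (Quotient.mk setoidM) (fun a x => rfl)
      Quotient.mk_surjective htr2 (fun hinj => ?_) ?_
    · refine hM ((Subgroup.eq_bot_iff_forall _).2 fun m hm => hfaith m fun x => ?_)
      exact hinj (Quotient.sound ⟨⟨m, hm⟩, rfl⟩)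
    · push Not at hMt
      obtain ⟨x, hx⟩ := hMt
      exact ⟨x, ω, fun e => by
        obtain ⟨m, hm⟩ := Quotient.exact e
        exact hx m m.2 hm⟩

end CfsgLib.BaseThree
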