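import Cfsg.Agent.Lib.BaseThree.Labels

/-!
The case of coordinates of odd prime exponent.
-/

set_option autoImplicit false
set_option linter.unusedSectionVars false
set_option linter.style.haveILetI false

namespace CfsgLib.BaseThree

open CfsgLib.BaseTwo (Inv CROn Irr FieldCase SympData zp zp_zero crOn_normal dot dot_single)

universe u

variable {A V : Type u} [Group A] [Finite A] [AddCommGroup V] [Finite V] [DistribMulAction A V]

/-- a triple whose first vector is non-zero -/
theorem TriOn.first {H : Subgroup A} {W : AddSubgroup V} (h : TriOn H W) (hW : W ≠ ⊥) :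
    ∃ t : Fin 3 → V, t 0 ≠ 0 ∧ (∀ i, t i ∈ W) ∧ ∀ a ∈ H, (∀ i, a • t i = t i) → ∀ x ∈ W, a • x = x := by
  obtain ⟨t, ht, hb⟩ := h
  by_cases hz : ∃ i, t i ≠ 0
  · obtain ⟨i, hi⟩ := hz
    refine ⟨t ∘ Equiv.swap 0 i, by simpa using hi, fun k => ht _, fun a ha e => hb a ha fun k => ?_⟩
    simpa using e (Equiv.swap 0 i k)
  · push Not at hz
    obtain ⟨x, hx, hx0⟩ := (AddSubgroup.bot_or_exists_ne_zero W).resolve_left hW
    exact ⟨fun _ => x, hx0, fun _ => hx, fun a ha _ => hb a ha fun k => by rw [hz k, smul_zero]⟩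

theorem tri_of_sympData (hA : Group.IsSolvable A) {N : ℕ} (hcard : Nat.card A ≤ N) (hL : LinHyp3.{u} (N - 1))
    (hirr : Irr A V) {U : Subgroup A} (F : FieldCase A V U) {r d : ℕ} (S : SympData A U r d) :
    TriOn (⊤ : Subgroup A) (⊤ : AddSubgroup V) := by
  haveI : Fact r.Prime := ⟨S.prime⟩
  haveI := S.normal
  let D : Data A V U r (d + 1) :=
    { ζ := S.ζ, E := S.E, K := U, X := S.X, Y := S.Y, order := S.order, zmem := S.zmem, normal := S.normal,
      le := le_rfl, leE := S.le, centU := S.centU, memX := S.memX, memY := S.memY, addX := S.addX,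
      addY := S.addY, rel := S.rel
      commX := fun k hk b => (S.centU _ (S.memX b) k hk).symm
      commY := fun k hk a => (S.centU _ (S.memY a) k hk).symm
      gen := fun g hg => by
        obtain ⟨u, hu, c, b, a, rfl⟩ := S.gen g hg
        refine ⟨u * S.sc c * S.sc (dot b a), mul_mem (mul_mem hu (S.sc_mem c)) (S.sc_mem _), a, b, ?_⟩
        rw [S.rel]
        simp only [mul_assoc]
      semireg := fun k hk v hv h => by
        by_contra h1
        exact hv (F.eq_zero_of_smul_eq hk h1 h) }
  set B := Subgroup.centralizer (D.E : Set A) with hBdef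
  have hBlt : Nat.card B ≤ N - 1 := by
    have hne : B ≠ ⊤ := by
      intro e
      have h : S.X (Pi.single 0 1) * S.Y (Pi.single 0 1) = S.Y (Pi.single 0 1) * S.X (Pi.single 0 1) :=
        (Subgroup.mem_centralizer_iff.1 (show S.Y (Pi.single 0 1) ∈ B by rw [e]; trivial) _ (S.memX _))
      rw [S.rel, mul_eq_right] at h
      have := S.sc_inj (h.trans (zp_zero S.ζ).symm)
      rw [dot_single, Pi.single_eq_same] at this
      exact one_ne_zero this
    have hlt : Nat.card B < Nat.card A :=
      lt_of_le_of_ne (Subgroup.card_le_card_group B) fun e => hne ((Subgroup.card_eq_iff_eq_top B).1 e)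
    omega
  haveI : D.E.Normal := S.normal
  have hBW : Inv B D.W := fun g hg v hv b => by
    rw [← mul_smul, Subgroup.mem_centralizer_iff.1 hg _ (D.memX b), mul_smul, hv b]
  obtain ⟨t, ht0, ht, hb⟩ :=
    TriOn.first (hL.on hA hBlt hBW ((crOn_normal hirr inferInstance).mono le_top hBW)) (D.W_ne_bot F)
  refine tri_of_data F D (ht 0) ht0 (ht 1) (ht 2) (fun g _ _ _ hgU k hk => ⟨0, ?_⟩) fun g hg e0 e1 e2 =>
    hb g hg fun i => by fin_cases i <;> assumption
  rw [hgU (Nat.succ_pos d) k hk, D.X_zero, mul_one]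

end CfsgLib.BaseThree
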