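import Cfsg.Agent.Lib.BaseTwo.Heis

/-!
Coordinates by pairs of involutions in groups with squares and commutators in a central cyclic subgroup, leaving
a rest without involutions outside the centre.
-/

set_option autoImplicit false
set_option linter.unusedSectionVars false
set_option linter.style.haveILetI false

namespace CfsgLib.BaseThree

open CfsgLib.BaseTwo (zp zp_zero zp_one zp_add zp_mem commute_zp zp_mul_zp_of_rel dot)

variable {G : Type*} [Group G] [Finite G]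

/-- coordinates -/
theorem exists_coords_two [Fact (Nat.Prime 2)] {U : Subgroup G} {ζ : G} (hζU : ζ ∈ U) (hζ2 : ζ * ζ = 1)
    (hζ1 : ζ ≠ 1)
    (hidx : ∀ a ∈ U, ∀ b ∈ U, (∀ w ∈ U, a ≠ w * w) → (∀ w ∈ U, b ≠ w * w) → ∃ w ∈ U, a * b = w * w) :
    ∀ P : Subgroup G, U ≤ P → (∀ g ∈ P, ∀ u ∈ U, g * u = u * g) →
      (∀ g ∈ P, ∀ h ∈ P, g * h = h * g ∨ g * h = ζ * (h * g)) → (∀ g ∈ P, g * g ∈ U) →
      (∀ g ∈ P, (∀ h ∈ P, g * h = h * g) → g ∈ U) →
      ((∀ w ∈ U, w * w ≠ ζ) ∨ ∀ g ∈ P, ∃ w ∈ U, g * g = w * w) →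
      ∃ (d : ℕ) (X Y : (Fin d → ZMod 2) → G) (Q : Subgroup G), U ≤ Q ∧ Q ≤ P ∧ (∀ b, X b ∈ P) ∧
        (∀ a, Y a ∈ P) ∧ (∀ b b', X (b + b') = X b * X b') ∧ (∀ a a', Y (a + a') = Y a * Y a') ∧
        (∀ b a, X b * Y a = zp ζ (dot b a) * (Y a * X b)) ∧
        (∀ q ∈ Q, ∀ b, q * X b = X b * q) ∧ (∀ q ∈ Q, ∀ a, q * Y a = Y a * q) ∧
        (∀ g ∈ P, ∃ q ∈ Q, ∃ a b, g = q * (Y a * X b)) ∧ ∀ q ∈ Q, q * q = 1 → q ∈ U := by
  classical
  intro P
  obtain ⟨n, hn⟩ : ∃ n, Nat.card P = n := ⟨_, rfl⟩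
  induction n using Nat.strong_induction_on generalizing P with
  | _ n ih =>
    intro hUP hPU hdich hsq hcent hsplit
    by_cases hinv : ∀ q ∈ P, q * q = 1 → q ∈ U
    · exact ⟨0, fun _ => 1, fun _ => 1, P, hUP, le_rfl, fun _ => one_mem _, fun _ => one_mem _,
        fun _ _ => (mul_one 1).symm, fun _ _ => (mul_one 1).symm,
        fun b a => by simp [dot, zp_zero], fun q _ b => by simp, fun q _ a => by simp,
        fun g hg => ⟨g, hg, 0, 0, by simp⟩, hinv⟩
    push Not at hinv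
    obtain ⟨x, hxP, hxx, hxU⟩ := hinv
    have zc : ∀ g ∈ P, g * ζ = ζ * g := fun g hg => hPU g hg ζ hζU
    obtain ⟨y₀, hy₀, hne₀⟩ : ∃ y ∈ P, x * y ≠ y * x := by
      by_contra hno
      push Not at hno
      exact hxU (hcent x hxP hno)
    have hx₀ : x * y₀ = ζ * (y₀ * x) := (hdich x hxP y₀ hy₀).resolve_left hne₀
    obtain ⟨y₁, hy₁, hxy₁, w, hw, hsqw⟩ : ∃ y ∈ P, x * y = ζ * (y * x) ∧ ∃ w ∈ U, y * y = w * w := by
      by_cases h : ∃ w ∈ U, y₀ * y₀ = w * w
      · exact ⟨y₀, hy₀, hx₀, h⟩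
      rcases hsplit with hs | hs
      · push Not at h
        obtain ⟨w, hw, e⟩ := hidx ζ hζU _ (hsq y₀ hy₀) (fun w hw e => hs w hw e.symm) h
        refine ⟨x * y₀, mul_mem hxP hy₀, ?_, w, hw, ?_⟩
        · calc x * (x * y₀) = x * (ζ * (y₀ * x)) := by rw [hx₀]
            _ = (x * ζ) * (y₀ * x) := by rw [mul_assoc]
            _ = _ := by rw [zc x hxP]; simp only [mul_assoc]
        · calc x * y₀ * (x * y₀) = ζ * (y₀ * x) * (x * y₀) := by rw [hx₀]
            _ = ζ * (y₀ * (x * x) * y₀) := by simp only [mul_assoc]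
            _ = ζ * (y₀ * y₀) := by rw [hxx, mul_one]
            _ = w * w := e
      · exact absurd (hs y₀ hy₀) h
    have hwy : y₁ * w = w * y₁ := hPU y₁ hy₁ w hw
    set y := y₁ * w⁻¹ with hydef
    have hyP : y ∈ P := mul_mem hy₁ (inv_mem (hUP hw))
    have hyy : y * y = 1 := by
      have h1 : w⁻¹ * y₁ = y₁ * w⁻¹ := (show Commute y₁ w from hwy).inv_right.symm.eq
      calc y * y = y₁ * (w⁻¹ * y₁) * w⁻¹ := by rw [hydef]; simp only [mul_assoc]
        _ = y₁ * y₁ * (w⁻¹ * w⁻¹) := by rw [h1]; simp only [mul_assoc]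
        _ = 1 := by rw [hsqw]; group
    have hxy : x * y = ζ * (y * x) := by
      have h1 : x * w⁻¹ = w⁻¹ * x := hPU x hxP _ (inv_mem hw)
      rw [hydef, ← mul_assoc, hxy₁, mul_assoc, mul_assoc y₁ x, h1, ← mul_assoc y₁]
    have hyx : y * x = ζ * (x * y) := by rw [hxy, ← mul_assoc, hζ2, one_mul]
    let P' : Subgroup G :=
      { carrier := {h | h ∈ P ∧ Commute x h ∧ Commute y h}
        one_mem' := ⟨one_mem _, Commute.one_right _, Commute.one_right _⟩
        mul_mem' := fun ha hb => ⟨mul_mem ha.1 hb.1, ha.2.1.mul_right hb.2.1, ha.2.2.mul_right hb.2.2⟩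
        inv_mem' := fun ha => ⟨inv_mem ha.1, ha.2.1.inv_right, ha.2.2.inv_right⟩ }
    have hP'P : P' ≤ P := fun h hh => hh.1
    have hxyne : x * y ≠ y * x := fun h => by
      rw [hxy] at h
      exact hζ1 (mul_eq_right.1 h)
    have hlt : Nat.card P' < n := by
      rw [← hn]
      refine Set.ncard_lt_ncard (SetLike.coe_ssubset_coe.2 (lt_of_le_of_ne hP'P fun e => hxyne ?_)) (Set.toFinite _)
      have : x ∈ P' := by rw [e]; exact hxP
      exact this.2.2.eq.symm
    have hcorr : ∀ g ∈ P, ∃ g' ∈ P', ∃ i j : ZMod 2, g = g' * (zp y i * zp x j) := by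
      intro g hg
      obtain ⟨g₁, hg₁, hyg, j, ej⟩ : ∃ g₁ ∈ P, Commute y g₁ ∧ ∃ j : ZMod 2, g = g₁ * zp x j := by
        rcases hdich y hyP g hg with h | h
        · exact ⟨g, hg, h, 0, by rw [zp_zero, mul_one]⟩
        · refine ⟨g * x, mul_mem hg hxP, ?_, 1, by rw [zp_one, mul_assoc, hxx, mul_one]⟩
          show y * (g * x) = g * x * y
          calc y * (g * x) = ζ * (g * (y * x)) := by rw [← mul_assoc, h]; simp only [mul_assoc]
            _ = ζ * ((g * ζ) * (x * y)) := by rw [hyx]; simp only [mul_assoc]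
            _ = g * x * y := by rw [zc g hg, mul_assoc ζ g, ← mul_assoc ζ ζ, hζ2, one_mul, mul_assoc]
      rcases hdich x hxP g₁ hg₁ with h | h
      · exact ⟨g₁, ⟨hg₁, h, hyg⟩, 0, j, by rw [zp_zero, one_mul]; exact ej⟩
      · refine ⟨g₁ * y, ⟨mul_mem hg₁ hyP, ?_, hyg.mul_right (Commute.refl y)⟩, 1, j, ?_⟩
        · show x * (g₁ * y) = g₁ * y * x
          calc x * (g₁ * y) = ζ * (g₁ * (x * y)) := by rw [← mul_assoc, h]; simp only [mul_assoc]
            _ = ζ * ((g₁ * ζ) * (y * x)) := by rw [hxy]; simp only [mul_assoc]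
            _ = g₁ * y * x := by
              rw [zc g₁ hg₁, mul_assoc ζ g₁, ← mul_assoc ζ ζ, hζ2, one_mul, hydef]; simp only [mul_assoc]
        · rw [zp_one, ej, mul_assoc, ← mul_assoc y y, hyy, one_mul]
    have hcent' : ∀ g ∈ P', (∀ h ∈ P', g * h = h * g) → g ∈ U := by
      intro g hg h
      refine hcent g hg.1 fun k hk => ?_
      obtain ⟨k', hk', i, j, e⟩ := hcorr k hk
      have hc : Commute g (k' * (zp y i * zp x j)) :=
        (show Commute g k' from h k' hk').mul_right ((hg.2.2.symm.pow_right _).mul_right (hg.2.1.symm.pow_right _))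
      rw [e]; exact hc.eq
    obtain ⟨d, X, Y, Q, hUQ, hQP, hX, hY, hXa, hYa, hXY, hQX, hQY, hgen, hQinv⟩ := ih _ hlt P' rfl
      (fun u hu => ⟨hUP hu, hPU x hxP u hu, hPU y hyP u hu⟩) (fun g hg => hPU g hg.1)
      (fun g hg h hh => hdich g hg.1 h hh.1) (fun g hg => hsq g hg.1) hcent'
      (hsplit.imp id fun hs g hg => hs g hg.1)
    have cx : x ^ 2 = 1 := by rw [sq, hxx]
    have cy : y ^ 2 = 1 := by rw [sq, hyy]
    have hζr : ζ ^ 2 = 1 := by rw [sq, hζ2]
    have hrel : ∀ a b : ZMod 2, zp x a * zp y b = zp ζ (a * b) * (zp y b * zp x a) := fun a b => by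
      have := zp_mul_zp_of_rel hζr (k := (1 : ZMod 2)) (by rw [zp_one]; exact hxy) (zc x hxP) (zc y hyP) a b
      rwa [one_mul] at this
    have hzc : ∀ (c : ZMod 2) {g : G}, g ∈ P → g * zp ζ c = zp ζ c * g := fun c g hg =>
      hPU g hg _ (zp_mem hζU c)
    have hpc : ∀ {h : G}, h ∈ P' → ∀ c : ZMod 2, h * zp x c = zp x c * h ∧ h * zp y c = zp y c * h :=
      fun hh c => ⟨(hh.2.1.symm.pow_right _).eq, (hh.2.2.symm.pow_right _).eq⟩
    refine ⟨d + 1, fun b => X (Fin.tail b) * zp x (b 0), fun a => Y (Fin.tail a) * zp y (a 0), Q, hUQ,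
      hQP.trans hP'P, fun b => mul_mem (hX _).1 (zp_mem hxP _), fun a => mul_mem (hY _).1 (zp_mem hyP _),
      fun b b' => ?_, fun a a' => ?_, fun b a => ?_, fun q hq b => ?_, fun q hq a => ?_, fun g hg => ?_, hQinv⟩
    · show X (Fin.tail b + Fin.tail b') * zp x (b 0 + b' 0) = _
      rw [hXa, zp_add cx, mul_assoc (X _), ← mul_assoc (X (Fin.tail b')), (hpc (hX _) _).1]
      simp only [mul_assoc]
    · show Y (Fin.tail a + Fin.tail a') * zp y (a 0 + a' 0) = _
      rw [hYa, zp_add cy, mul_assoc (Y _), ← mul_assoc (Y (Fin.tail a')), (hpc (hY _) _).2]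
      simp only [mul_assoc]
    · have hd : dot b a = dot (Fin.tail b) (Fin.tail a) + b 0 * a 0 := by
        rw [dot, Fin.sum_univ_succ, add_comm]; rfl
      show X (Fin.tail b) * zp x (b 0) * (Y (Fin.tail a) * zp y (a 0)) = _
      rw [hd, zp_add hζr]
      have e1 := (hpc (hY (Fin.tail a)) (b 0)).1
      have e2 := (hpc (hX (Fin.tail b)) (a 0)).2
      calc X (Fin.tail b) * zp x (b 0) * (Y (Fin.tail a) * zp y (a 0))
          = X (Fin.tail b) * Y (Fin.tail a) * (zp x (b 0) * zp y (a 0)) := by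
            rw [mul_assoc, ← mul_assoc (zp x _), ← e1]; simp only [mul_assoc]
        _ = zp ζ (dot (Fin.tail b) (Fin.tail a)) * (Y (Fin.tail a) * X (Fin.tail b)) *
              (zp ζ (b 0 * a 0) * (zp y (a 0) * zp x (b 0))) := by rw [hXY, hrel]
        _ = zp ζ (dot (Fin.tail b) (Fin.tail a)) * zp ζ (b 0 * a 0) *
              (Y (Fin.tail a) * (X (Fin.tail b) * zp y (a 0)) * zp x (b 0)) := by
            rw [mul_assoc (zp ζ (dot _ _)) (Y _ * X _), ← mul_assoc (Y _ * X _) (zp ζ _),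
              hzc _ (mul_mem (hY _).1 (hX _).1)]
            simp only [mul_assoc]
        _ = _ := by rw [e2]; simp only [mul_assoc]
    · exact ((show Commute q (X _) from hQX q hq _).mul_right ((hQP hq).2.1.symm.pow_right _)).eq
    · exact ((show Commute q (Y _) from hQY q hq _).mul_right ((hQP hq).2.2.symm.pow_right _)).eq
    · obtain ⟨g', hg', i, j, e⟩ := hcorr g hg
      obtain ⟨q, hq, a, b, e'⟩ := hgen g' hg'
      refine ⟨q, hq, Fin.cons i a, Fin.cons j b, ?_⟩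
      simp only [Fin.tail_cons, Fin.cons_zero]
      rw [e, e']
      calc q * (Y a * X b) * (zp y i * zp x j) = q * (Y a * (X b * zp y i) * zp x j) := by simp only [mul_assoc]
        _ = _ := by rw [(hpc (hX b) i).2]; simp only [mul_assoc]

end CfsgLib.BaseThree
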