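import Cfsg.Agent.Lib.BaseThree.Labels
import Cfsg.Agent.Lib.BaseThree.Involutions

/-!
The case of a maximal normal subgroup with elementary abelian factor of exponent two above the scalars.
-/

set_option autoImplicit false
set_option linter.unusedSectionVars false
set_option linter.style.haveILetI false

namespace CfsgLib.BaseThree

open CfsgLib.BaseTwo (Irr FieldCase zp zp_zero zp_one zp_mem zp_add dot dot_single dot_add dot_add_right
  dot_comm pow_mul_pow_of_rel)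

universe u

variable {A V : Type u} [Group A] [Finite A] [AddCommGroup V] [Finite V] [DistribMulAction A V]

theorem zmod2_cases : ∀ c : ZMod 2, c = 0 ∨ c = 1 := by decide

theorem zmod2_self : ∀ c : ZMod 2, c + c = 0 := by decide

/-- a character is given by the pairing -/
theorem eq_dot_of_add {d : ℕ} [Fact (Nat.Prime 2)] (χ : (Fin d → ZMod 2) → ZMod 2)
    (hχ : ∀ a b, χ (a + b) = χ a + χ b) (b : Fin d → ZMod 2) : χ b = dot b fun k => χ (Pi.single k 1) := by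
  let χh : (Fin d → ZMod 2) →+ ZMod 2 := AddMonoidHom.mk' χ hχ
  let ψ : (Fin d → ZMod 2) →+ ZMod 2 :=
    AddMonoidHom.mk' (fun b => dot b fun k => χ (Pi.single k 1)) fun a b => dot_add a b _
  refine mem_of_singles (S := AddMonoidHom.eqLocus χh ψ) (fun k => ?_) b
  show χ _ = dot (Pi.single k 1) _
  rw [dot_comm, dot_single]

/-- the rest is generated by two elements -/
theorem two_generators {U : Subgroup A} [IsCyclic U] {ζ : A} (hζ2 : ζ * ζ = 1) (hζU : ζ ∈ U)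
    {Q : Subgroup A} (hUQ : U ≤ Q) (hQU : ∀ q ∈ Q, ∀ u ∈ U, q * u = u * q)
    (hdich : ∀ g ∈ Q, ∀ h ∈ Q, g * h = h * g ∨ g * h = ζ * (h * g)) (hsq : ∀ q ∈ Q, q * q ∈ U)
    (hcent : ∀ q ∈ Q, (∀ h ∈ Q, q * h = h * q) → q ∈ U) (hinv : ∀ q ∈ Q, q * q = 1 → q ∈ U) (hne : Q ≠ U) :
    ∃ q₁ ∈ Q, ∃ q₂ ∈ Q, Q ≤ Subgroup.closure {q₁, q₂} := by
  classical
  have hUc : ∀ x ∈ U, ∀ y ∈ U, x * y = y * x := fun x hx y hy => hQU x (hUQ hx) y hy
  have hns : ∀ q ∈ Q, q ∉ U → ∀ w ∈ U, q * q ≠ w * w := by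
    intro q hq hqU w hw e
    have hc : Commute q w⁻¹ := (show Commute q w from hQU q hq w hw).inv_right
    have h1 : q * w⁻¹ ∈ U := hinv _ (mul_mem hq (inv_mem (hUQ hw))) (by
      rw [hc.symm.mul_mul_mul_comm, e]; group)
    exact hqU (by simpa using mul_mem h1 hw)
  obtain ⟨q₁, hq₁, hq₁U⟩ := SetLike.exists_of_lt (lt_of_le_of_ne hUQ hne.symm)
  obtain ⟨q₀, hq₀, hne₀⟩ : ∃ q ∈ Q, q₁ * q ≠ q * q₁ := by
    by_contra hno
    push Not at hno
    exact hq₁U (hcent q₁ hq₁ hno)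
  have hq₀U : q₀ ∉ U := fun h => hne₀ (hQU q₁ hq₁ q₀ h)
  obtain ⟨u, hu⟩ := IsCyclic.exists_zpow_surjective (G := U)
  obtain ⟨s, hs⟩ := hu ⟨q₀ * q₀, hsq q₀ hq₀⟩
  have hs' : (u : A) ^ s = q₀ * q₀ := congrArg Subtype.val hs
  obtain ⟨k, hk⟩ : ∃ k : ℤ, s = 2 * k + 1 := by
    rcases Int.even_or_odd s with ⟨k, hk⟩ | h
    · exact absurd (by rw [← hs', hk, zpow_add]) (hns q₀ hq₀ hq₀U _ (zpow_mem u.2 k))
    · exact h
  obtain ⟨q₂, hq₂def⟩ : ∃ q, q = q₀ * (u : A) ^ (-k) := ⟨_, rfl⟩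
  have hq₂ : q₂ ∈ Q := hq₂def ▸ mul_mem hq₀ (hUQ (zpow_mem u.2 _))
  have hsq₂ : q₂ * q₂ = u := by
    rw [hq₂def, (show Commute q₀ ((u : A) ^ (-k)) from hQU q₀ hq₀ _ (zpow_mem u.2 _)).symm.mul_mul_mul_comm, ← hs',
      ← zpow_add, ← zpow_add, hk, show 2 * k + 1 + (-k + -k) = 1 by ring, zpow_one]
  have hne₂ : q₁ * q₂ ≠ q₂ * q₁ := fun h => hne₀ (by
    have hc : Commute q₁ q₂ := h
    have h' := hc.mul_right (show Commute q₁ ((u : A) ^ k) from hQU q₁ hq₁ _ (zpow_mem u.2 k))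
    rw [hq₂def, mul_assoc, ← zpow_add, neg_add_cancel, zpow_zero, mul_one] at h'
    exact h'.eq)
  have hζc : ∀ g ∈ Q, g * ζ = ζ * g := fun g hg => hQU g hg ζ hζU
  have h12 : q₁ * q₂ = ζ * (q₂ * q₁) := (hdich q₁ hq₁ q₂ hq₂).resolve_left hne₂
  have h21 : q₂ * q₁ = ζ * (q₁ * q₂) := by rw [h12, ← mul_assoc, hζ2, one_mul]
  refine ⟨q₁, hq₁, q₂, hq₂, ?_⟩
  set H := Subgroup.closure {q₁, q₂}
  have m1 : q₁ ∈ H := Subgroup.subset_closure (by simp)
  have m2 : q₂ ∈ H := Subgroup.subset_closure (by simp)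
  have hUH : U ≤ H := fun x hx => by
    obtain ⟨m, hm⟩ := hu ⟨x, hx⟩
    rw [show x = (u : A) ^ m from (congrArg Subtype.val hm).symm, ← hsq₂]
    exact zpow_mem (mul_mem m2 m2) m
  intro g hg
  obtain ⟨g₁, hg₁, hc₁, hback₁⟩ : ∃ g₁ ∈ Q, Commute q₂ g₁ ∧ (g₁ ∈ H → g ∈ H) := by
    rcases hdich q₂ hq₂ g hg with h | h
    · exact ⟨g, hg, h, id⟩
    · refine ⟨g * q₁, mul_mem hg hq₁, ?_, fun h' => by simpa using mul_mem h' (inv_mem m1)⟩
      show q₂ * (g * q₁) = g * q₁ * q₂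
      calc q₂ * (g * q₁) = ζ * (g * (q₂ * q₁)) := by rw [← mul_assoc, h]; simp only [mul_assoc]
        _ = ζ * ((g * ζ) * (q₁ * q₂)) := by rw [h21]; simp only [mul_assoc]
        _ = _ := by rw [hζc g hg, mul_assoc ζ g, ← mul_assoc ζ ζ, hζ2, one_mul, mul_assoc]
  obtain ⟨g₂, hg₂, hd₁, hd₂, hback₂⟩ : ∃ g₂ ∈ Q, Commute q₁ g₂ ∧ Commute q₂ g₂ ∧ (g₂ ∈ H → g₁ ∈ H) := by
    rcases hdich q₁ hq₁ g₁ hg₁ with h | h
    · exact ⟨g₁, hg₁, h, hc₁, id⟩
    · refine ⟨g₁ * q₂, mul_mem hg₁ hq₂, ?_, hc₁.mul_right (Commute.refl q₂),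
        fun h' => by simpa using mul_mem h' (inv_mem m2)⟩
      show q₁ * (g₁ * q₂) = g₁ * q₂ * q₁
      calc q₁ * (g₁ * q₂) = ζ * (g₁ * (q₁ * q₂)) := by rw [← mul_assoc, h]; simp only [mul_assoc]
        _ = ζ * ((g₁ * ζ) * (q₂ * q₁)) := by rw [h12]; simp only [mul_assoc]
        _ = _ := by rw [hζc g₁ hg₁, mul_assoc ζ g₁, ← mul_assoc ζ ζ, hζ2, one_mul, mul_assoc]
  refine hback₁ (hback₂ (hUH ?_))
  by_contra hgU
  by_cases hp : g₂ * q₁ ∈ U
  · have hc : Commute q₂ (g₂⁻¹ * (g₂ * q₁)) :=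
      hd₂.inv_right.mul_right (show Commute q₂ (g₂ * q₁) from hQU q₂ hq₂ _ hp)
    rw [inv_mul_cancel_left] at hc
    exact hne₂ hc.eq.symm
  · have h1 := hns _ (mul_mem hg₂ hq₁) hp
    obtain ⟨a, ha⟩ := hu ⟨g₂ * g₂, hsq g₂ hg₂⟩
    obtain ⟨b, hb⟩ := hu ⟨q₁ * q₁, hsq q₁ hq₁⟩
    have ha' : (u : A) ^ a = g₂ * g₂ := congrArg Subtype.val ha
    have hb' : (u : A) ^ b = q₁ * q₁ := congrArg Subtype.val hb
    rcases Int.even_or_odd a with ⟨i, hi⟩ | ⟨i, hi⟩
    · exact hns g₂ hg₂ hgU _ (zpow_mem u.2 i) (by rw [← ha', hi, zpow_add])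
    rcases Int.even_or_odd b with ⟨j, hj⟩ | ⟨j, hj⟩
    · exact hns q₁ hq₁ hq₁U _ (zpow_mem u.2 j) (by rw [← hb', hj, zpow_add])
    refine h1 _ (zpow_mem u.2 (i + j + 1)) ?_
    rw [hd₁.mul_mul_mul_comm, ← ha', ← hb', ← zpow_add, ← zpow_add, hi, hj]
    congr 1
    ring

theorem tri_of_two (hA : Group.IsSolvable A) {U : Subgroup A} (F : FieldCase A V U)
    (hmax : ∀ W : Subgroup A, W.Normal → U ≤ W → (∀ x ∈ W, ∀ y ∈ W, x * y = y * x) → W = U)
    (hC : Subgroup.centralizer (U : Set A) ≠ U)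
    (hall : ∀ E : Subgroup A, E.Normal → U < E → E ≤ Subgroup.centralizer (U : Set A) →
      (∀ K : Subgroup A, K.Normal → U ≤ K → K ≤ E → K = U ∨ K = E) → ∀ x ∈ E, x * x ∈ U) :
    TriOn (⊤ : Subgroup A) (⊤ : AddSubgroup V) := by
  classical
  haveI := F.normal
  haveI := hA
  haveI : Fact (Nat.Prime 2) := ⟨Nat.prime_two⟩
  set C := Subgroup.centralizer (U : Set A) with hCdef
  have hUC : U ≤ C := fun x hx => Subgroup.mem_centralizer_iff.2 fun y hy => F.comm y hy x hx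
  obtain ⟨E, ⟨hEn, hUE, hEC, hcommU, hsqU⟩, hEmax⟩ := Set.Finite.exists_maximal
    (s := {E : Subgroup A | E.Normal ∧ U ≤ E ∧ E ≤ C ∧ (∀ x ∈ E, ∀ y ∈ E, x * y * x⁻¹ * y⁻¹ ∈ U) ∧
      ∀ x ∈ E, x * x ∈ U}) (Set.toFinite _)
    ⟨U, F.normal, le_rfl, hUC, fun x hx y hy => mul_mem (mul_mem (mul_mem hx hy) (inv_mem hx)) (inv_mem hy),
      fun x hx => mul_mem hx hx⟩
  haveI := hEn
  have hEU : ∀ e ∈ E, ∀ x ∈ U, e * x = x * e := fun e he x hx =>
    (Subgroup.mem_centralizer_iff.1 (hEC he) x hx).symm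
  set M := Subgroup.centralizer (E : Set A) with hMdef
  have hUM : U ≤ M := fun u hu => Subgroup.mem_centralizer_iff.2 fun e he => hEU e he u hu
  have hEM : E ⊓ M = U := hmax _ inferInstance (le_inf hUE hUM)
    fun a ha b hb => Subgroup.mem_centralizer_iff.1 hb.2 a ha.1
  have hMU : M = U := by
    by_contra hne
    obtain ⟨E₂, ⟨hn₂, hU₂, hle₂⟩, hmin⟩ := Set.Finite.exists_minimal
      (s := {E₂ : Subgroup A | E₂.Normal ∧ U < E₂ ∧ E₂ ≤ M}) (Set.toFinite _)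
      ⟨M, (inferInstance : (Subgroup.centralizer (E : Set A)).Normal), lt_of_le_of_ne hUM (Ne.symm hne), le_rfl⟩
    haveI := hn₂
    have hMC : M ≤ C := Subgroup.centralizer_le hUE
    have hmin' : ∀ K : Subgroup A, K.Normal → U ≤ K → K ≤ E₂ → K = U ∨ K = E₂ := fun K hK hUK hKE => by
      rcases eq_or_lt_of_le hUK with h | h
      · exact Or.inl h.symm
      · exact Or.inr (le_antisymm hKE (hmin ⟨hK, h, hKE.trans hle₂⟩ hKE))
    have hsq₂ := hall E₂ hn₂ hU₂ (hle₂.trans hMC) hmin'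
    -- commutators of `E₂` lie in `U`
    have hcomm₂ : ∀ x ∈ E₂, ∀ y ∈ E₂, x * y * x⁻¹ * y⁻¹ ∈ U := by
      have hle : ⁅E₂, E₂⁆ ⊔ U ≤ E₂ := sup_le (Subgroup.commutator_le_self E₂) hU₂.le
      rcases hmin' (⁅E₂, E₂⁆ ⊔ U) inferInstance le_sup_right hle with h | h
      · intro x hx y hy
        have h1 : x * y * x⁻¹ * y⁻¹ ∈ ⁅E₂, E₂⁆ ⊔ U := Subgroup.mem_sup_left
          (commutatorElement_def x y ▸ Subgroup.commutator_mem_commutator hx hy)
        rwa [h] at h1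
      · exfalso
        let q := QuotientGroup.mk' U
        have hperf : ⁅E₂.map q, E₂.map q⁆ = E₂.map q := by
          conv_rhs => rw [← h, Subgroup.map_sup, QuotientGroup.map_mk'_self, sup_bot_eq]
          rw [Subgroup.map_commutator]
        haveI : Group.IsSolvable (A ⧸ U) :=
          Group.isSolvable_of_surjective (QuotientGroup.mk'_surjective U)
        by_cases hb : E₂.map q = ⊥
        · rw [Subgroup.map_eq_bot_iff, QuotientGroup.ker_mk'] at hb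
          exact lt_irrefl _ (lt_of_lt_of_le hU₂ hb)
        · exact (Group.IsSolvable.commutator_lt_of_ne_bot hb).ne hperf
    have hc : ∀ e ∈ E, ∀ f ∈ E₂, Commute e f := fun e he f hf =>
      Subgroup.mem_centralizer_iff.1 (hle₂ hf) e he
    have hmem : ∀ {g}, g ∈ E ⊔ E₂ → ∃ e ∈ E, ∃ f ∈ E₂, g = e * f := fun {g} hg => by
      rw [← SetLike.mem_coe, Subgroup.normal_mul] at hg
      obtain ⟨e, he, f, hf, rfl⟩ := hg
      exact ⟨e, he, f, hf, rfl⟩
    have hle : E ⊔ E₂ ≤ E := hEmax ⟨inferInstance, hUE.trans le_sup_left, sup_le hEC (hle₂.trans hMC),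
      fun x hx y hy => by
        obtain ⟨e, he, f, hf, rfl⟩ := hmem hx
        obtain ⟨e', he', f', hf', rfl⟩ := hmem hy
        have h1 := hcommU e he e' he'
        have h2 := hcomm₂ f hf f' hf'
        have c1 : f * e' = e' * f := (hc e' he' f hf).eq.symm
        have c2 : f * f' * f⁻¹ * f'⁻¹ * (e * e'⁻¹) = e * e'⁻¹ * (f * f' * f⁻¹ * f'⁻¹) :=
          (hEU _ (mul_mem he (inv_mem he')) _ h2).symm
        have c3 : e * f = f * e := (hc e he f hf).eq
        have c4 : e' * f' = f' * e' := (hc e' he' f' hf').eq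
        have e1 : e * f * (e' * f') * (e * f)⁻¹ * (e' * f')⁻¹ =
            (e * e' * e⁻¹ * e'⁻¹) * (f * f' * f⁻¹ * f'⁻¹) := by
          have d1 : Commute (f * f' * f⁻¹) (e⁻¹) :=
            (((hc e he f hf).symm.mul_left (hc e he f' hf').symm).mul_left (hc e he f hf).symm.inv_left).inv_right
          have d2 : Commute (f * f' * f⁻¹ * f'⁻¹) e'⁻¹ :=
            ((((hc e' he' f hf).symm.mul_left (hc e' he' f' hf').symm).mul_left
              (hc e' he' f hf).symm.inv_left).mul_left (hc e' he' f' hf').symm.inv_left).inv_right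
          calc e * f * (e' * f') * (e * f)⁻¹ * (e' * f')⁻¹
              = e * (f * e') * (f' * f⁻¹) * e⁻¹ * (f'⁻¹ * e'⁻¹) := by rw [mul_inv_rev, mul_inv_rev]; group
            _ = e * e' * (f * f' * f⁻¹ * e⁻¹) * (f'⁻¹ * e'⁻¹) := by rw [c1]; group
            _ = e * e' * e⁻¹ * (f * f' * f⁻¹ * f'⁻¹ * e'⁻¹) := by rw [d1.eq]; group
            _ = _ := by rw [d2.eq]; group
        rw [e1]
        exact mul_mem h1 h2,
      fun x hx => by
        obtain ⟨e, he, f, hf, rfl⟩ := hmem hx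
        rw [(hc e he f hf).symm.mul_mul_mul_comm]
        exact mul_mem (hsqU e he) (hsq₂ f hf)⟩ le_sup_left
    exact hU₂.2 ((le_inf ((le_sup_right).trans hle) hle₂).trans hEM.le)
  have hcent : ∀ g ∈ E, (∀ h ∈ E, g * h = h * g) → g ∈ U := fun g _ h => by
    rw [← hMU]
    exact Subgroup.mem_centralizer_iff.2 fun e he => (h e he).symm
  obtain ⟨x₁, hx₁, y₁, hy₁, hne⟩ : ∃ x ∈ E, ∃ y ∈ E, x * y ≠ y * x := by
    by_contra hno
    push Not at hno
    have hEeq : E = U := hmax E hEn hUE hno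
    refine hC ?_
    rw [← hMU, hCdef, hMdef, hEeq]
  have hz2 : ∀ g ∈ E, ∀ h ∈ E, (g * h * g⁻¹ * h⁻¹) ^ 2 = 1 := by
    intro x hx y hy
    set z := x * y * x⁻¹ * y⁻¹ with hz
    have hzU : z ∈ U := hcommU x hx y hy
    have h := pow_mul_pow_of_rel (show x * y = z * (y * x) by rw [hz]; group) (hEU x hx z hzU) (hEU y hy z hzU) 2 1
    rw [pow_one, mul_one, ← hEU y hy _ (by rw [sq]; exact hsqU x hx)] at h
    exact mul_eq_right.1 h.symm
  set ζ := x₁ * y₁ * x₁⁻¹ * y₁⁻¹ with hζdef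
  have hζU : ζ ∈ U := hcommU x₁ hx₁ y₁ hy₁
  have hζ1 : ζ ≠ 1 := fun e => hne (by
    calc x₁ * y₁ = ζ * (y₁ * x₁) := by rw [hζdef]; group
      _ = y₁ * x₁ := by rw [e, one_mul])
  have hζ2 : ζ * ζ = 1 := by rw [← sq]; exact hz2 x₁ hx₁ y₁ hy₁
  have hζord : orderOf ζ = 2 := orderOf_eq_prime (hz2 x₁ hx₁ y₁ hy₁) hζ1
  have hrel : ∀ g ∈ E, ∀ h ∈ E, ∃ c : ZMod 2, g * h = zp ζ c * (h * g) := fun g hg h hh => by
    obtain ⟨c, hc⟩ := F.eq_zp hζU hζord (hcommU g hg h hh) (hz2 g hg h hh)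
    exact ⟨c, by rw [← hc]; group⟩
  have hdich : ∀ g ∈ E, ∀ h ∈ E, g * h = h * g ∨ g * h = ζ * (h * g) := fun g hg h hh => by
    obtain ⟨c, hc⟩ := hrel g hg h hh
    rcases zmod2_cases c with rfl | rfl
    · exact Or.inl (by rwa [zp_zero, one_mul] at hc)
    · exact Or.inr (by rwa [zp_one] at hc)
  haveI := F.cyclic
  have hidx : ∀ a ∈ U, ∀ b ∈ U, (∀ w ∈ U, a ≠ w * w) → (∀ w ∈ U, b ≠ w * w) → ∃ w ∈ U, a * b = w * w := by
    intro a ha b hb na nb
    obtain ⟨u, hu⟩ := IsCyclic.exists_zpow_surjective (G := U)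
    obtain ⟨i, hi⟩ := hu ⟨a, ha⟩
    obtain ⟨j, hj⟩ := hu ⟨b, hb⟩
    have hi' : (u : A) ^ i = a := congrArg Subtype.val hi
    have hj' : (u : A) ^ j = b := congrArg Subtype.val hj
    rcases Int.even_or_odd i with ⟨k, hk⟩ | ⟨k, hk⟩
    · exact absurd (by rw [← hi', hk, zpow_add]) (na _ (zpow_mem u.2 k))
    rcases Int.even_or_odd j with ⟨l, hl⟩ | ⟨l, hl⟩
    · exact absurd (by rw [← hj', hl, zpow_add]) (nb _ (zpow_mem u.2 l))
    exact ⟨_, zpow_mem u.2 (k + l + 1), by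
      rw [← hi', ← hj', ← zpow_add, ← zpow_add, hk, hl]; congr 1; ring⟩
  have hsplit : (∀ w ∈ U, w * w ≠ ζ) ∨ ∀ g ∈ E, ∃ w ∈ U, g * g = w * w := by
    by_cases hz : ∀ w ∈ U, w * w ≠ ζ
    · exact Or.inl hz
    refine Or.inr ?_
    push Not at hz
    obtain ⟨i₀, hi₀U, hi₀⟩ := hz
    have hzs : ∀ c : ZMod 2, ∃ w ∈ U, zp ζ c = w * w := fun c => by
      rcases zmod2_cases c with rfl | rfl
      · exact ⟨1, one_mem _, by rw [zp_zero, mul_one]⟩
      · exact ⟨i₀, hi₀U, by rw [zp_one]; exact hi₀.symm⟩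
    have hprod : ∀ g ∈ E, ∀ h ∈ E, ∃ c : ZMod 2, g * h * (g * h) = zp ζ c * (g * g * (h * h)) := fun g hg h hh => by
      obtain ⟨c, hc⟩ := hrel h hh g hg
      refine ⟨c, ?_⟩
      calc g * h * (g * h) = g * (h * g) * h := by simp only [mul_assoc]
        _ = (g * zp ζ c) * (g * h * h) := by rw [hc]; simp only [mul_assoc]
        _ = _ := by rw [hEU g hg _ (zp_mem hζU c)]; simp only [mul_assoc]
    have hmulsq : ∀ {a b : A}, (∃ w ∈ U, a = w * w) → (∃ w ∈ U, b = w * w) → ∃ w ∈ U, a * b = w * w := by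
      rintro a b ⟨v, hv, rfl⟩ ⟨w, hw, rfl⟩
      exact ⟨v * w, mul_mem hv hw, ((show Commute v w from F.comm v hv w hw).mul_mul_mul_comm _ _)⟩
    let K : Subgroup A :=
      { carrier := {g | g ∈ E ∧ ∃ w ∈ U, g * g = w * w}
        one_mem' := ⟨one_mem _, 1, one_mem _, rfl⟩
        mul_mem' := fun {g h} hg hh => ⟨mul_mem hg.1 hh.1, by
          obtain ⟨c, hc⟩ := hprod g hg.1 h hh.1
          rw [hc]
          exact hmulsq (hzs c) (hmulsq hg.2 hh.2)⟩
        inv_mem' := fun {g} hg => ⟨inv_mem hg.1, by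
          obtain ⟨w, hw, e⟩ := hg.2
          exact ⟨w⁻¹, inv_mem hw, by rw [← mul_inv_rev, ← mul_inv_rev, e]⟩⟩ }
    haveI hKn : K.Normal := ⟨fun g hg a => ⟨hEn.conj_mem g hg.1 a, by
      obtain ⟨w, hw, e⟩ := hg.2
      exact ⟨a * w * a⁻¹, F.normal.conj_mem w hw a, by
        rw [show a * g * a⁻¹ * (a * g * a⁻¹) = a * (g * g) * a⁻¹ by group, e]; group⟩⟩⟩
    have hKE : K ≤ E := fun g hg => hg.1
    have hUK : U ≤ K := fun g hg => ⟨hUE hg, g, hg, rfl⟩
    have hKc : K ⊓ Subgroup.centralizer (K : Set A) = U := hmax _ inferInstance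
      (le_inf hUK fun u hu => Subgroup.mem_centralizer_iff.2 fun e he => hEU e (hKE he) u hu)
      fun a ha b hb => Subgroup.mem_centralizer_iff.1 hb.2 a ha.1
    intro g hg
    by_contra hgK
    have hgK' : g ∉ K := fun h => hgK h.2
    obtain ⟨d, X, Y, Q, hUQ, hQK, hX, hY, hXa, hYa, hXY, -, -, hgen, hQinv⟩ :=
      exists_coords_two hζU hζ2 hζ1 hidx K hUK (fun k hk => hEU k (hKE hk))
        (fun a ha b hb => hdich a (hKE ha) b (hKE hb)) (fun a ha => hsqU a (hKE ha))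
        (fun a ha h => by rw [← hKc]; exact ⟨ha, Subgroup.mem_centralizer_iff.2 fun b hb => (h b hb).symm⟩)
        (Or.inr fun a ha => ha.2)
    have hQU : Q ≤ U := fun q hq => by
      obtain ⟨w, hw, e⟩ := (hQK hq).2
      have hc : Commute q w⁻¹ := (show Commute q w from hEU q (hKE (hQK hq)) w hw).inv_right
      have h1 : q * w⁻¹ ∈ U := hQinv _ (mul_mem hq (hUQ (inv_mem hw))) (by rw [hc.symm.mul_mul_mul_comm, e]; group)
      simpa using mul_mem h1 hw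
    have hzc : ∀ (c : ZMod 2), ∀ e ∈ E, e * zp ζ c = zp ζ c * e := fun c e he => hEU e he _ (zp_mem hζU c)
    have hzadd : ∀ a b : ZMod 2, zp ζ (a + b) = zp ζ a * zp ζ b := zp_add (by rw [sq, hζ2])
    have hzz : ∀ c : ZMod 2, zp ζ c * zp ζ c = 1 := fun c => by rw [← hzadd, zmod2_self, zp_zero]
    have hzinj : ∀ {a b : ZMod 2}, zp ζ a = zp ζ b → a = b := fun h => CfsgLib.BaseTwo.zp_inj hζord h
    -- correct `g` to commute with all `X`
    choose χ hχ using fun b => hrel (X b) (hKE (hX b)) g hg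
    have hχadd : ∀ a b, χ (a + b) = χ a + χ b := fun a b => hzinj (mul_right_cancel (by
      rw [← hXa, ← hχ, hXa, mul_assoc, hχ b, ← mul_assoc, hzc _ _ (hKE (hX a)), mul_assoc, ← mul_assoc (X a),
        hχ a, add_comm (χ a), hzadd]
      simp only [mul_assoc] : zp ζ (χ (a + b)) * (g * (X a * X b)) = zp ζ (χ a + χ b) * (g * (X a * X b))))
    set a₀ : Fin d → ZMod 2 := fun k => χ (Pi.single k 1)
    set g₁ := g * Y a₀ with hg₁def
    have hg₁E : g₁ ∈ E := mul_mem hg (hKE (hY _))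
    have hg₁X : ∀ b, Commute (X b) g₁ := fun b => by
      show X b * (g * Y a₀) = g * Y a₀ * X b
      calc X b * (g * Y a₀) = zp ζ (χ b) * (g * (X b * Y a₀)) := by rw [← mul_assoc, hχ]; simp only [mul_assoc]
        _ = zp ζ (χ b) * ((g * zp ζ (dot b a₀)) * (Y a₀ * X b)) := by rw [hXY]; simp only [mul_assoc]
        _ = _ := by
          rw [hzc _ g hg, mul_assoc (zp ζ _) g, ← mul_assoc (zp ζ (χ b)),
            show dot b a₀ = χ b from (eq_dot_of_add χ hχadd b).symm, hzz, one_mul, mul_assoc]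
    choose ψ hψ using fun a => hrel (Y a) (hKE (hY a)) g₁ hg₁E
    have hψadd : ∀ a b, ψ (a + b) = ψ a + ψ b := fun a b => hzinj (mul_right_cancel (by
      rw [← hYa, ← hψ, hYa, mul_assoc, hψ b, ← mul_assoc, hzc _ _ (hKE (hY a)), mul_assoc, ← mul_assoc (Y a),
        hψ a, add_comm (ψ a), hzadd]
      simp only [mul_assoc] : zp ζ (ψ (a + b)) * (g₁ * (Y a * Y b)) = zp ζ (ψ a + ψ b) * (g₁ * (Y a * Y b))))
    set b₀ : Fin d → ZMod 2 := fun k => ψ (Pi.single k 1)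
    set g₂ := g₁ * X b₀ with hg₂def
    have hg₂E : g₂ ∈ E := mul_mem hg₁E (hKE (hX _))
    have hXX : ∀ b b', Commute (X b) (X b') := fun b b' => show X b * X b' = X b' * X b by
      rw [← hXa, ← hXa, add_comm]
    have hg₂Y : ∀ a, Commute (Y a) g₂ := fun a => by
      show Y a * (g₁ * X b₀) = g₁ * X b₀ * Y a
      have hd : dot b₀ a = ψ a := by rw [dot_comm]; exact (eq_dot_of_add ψ hψadd a).symm
      rw [mul_assoc g₁, hXY, hd, ← mul_assoc g₁, hzc _ _ hg₁E, ← mul_assoc, hψ]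
      simp only [mul_assoc]
    have hg₂K : g₂ ∈ Subgroup.centralizer (K : Set A) := Subgroup.mem_centralizer_iff.2 fun k hk => by
      obtain ⟨q, hq, a, b, rfl⟩ := hgen k hk
      exact ((show Commute q g₂ from (hEU g₂ hg₂E q (hQU hq)).symm).mul_left
        ((hg₂Y a).mul_left ((hg₁X b).mul_right (hXX b b₀)))).eq
    have hg₂nK : g₂ ∉ K := fun h => hgK' (by
      have h1 := mul_mem (mul_mem h (inv_mem (hX b₀))) (inv_mem (hY a₀))
      rwa [hg₂def, hg₁def, mul_inv_cancel_right, mul_inv_cancel_right] at h1)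
    refine hg₂nK (hUK (hcent g₂ hg₂E fun h hh => ?_))
    by_cases hhK : h ∈ K
    · exact (Subgroup.mem_centralizer_iff.1 hg₂K h hhK).symm
    have hp : h * g₂ ∈ K := ⟨mul_mem hh hg₂E, by
      obtain ⟨c, hc⟩ := hprod h hh g₂ hg₂E
      rw [hc]
      refine hmulsq (hzs c) (hidx _ (hsqU h hh) _ (hsqU g₂ hg₂E) (fun w hw e => hhK ⟨hh, w, hw, e⟩)
        fun w hw e => hg₂nK ⟨hg₂E, w, hw, e⟩)⟩
    have hc : Commute g₂ (h * g₂ * g₂⁻¹) :=
      (show Commute g₂ (h * g₂) from (Subgroup.mem_centralizer_iff.1 hg₂K _ hp).symm).mul_right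
        (Commute.refl g₂).inv_right
    rw [mul_inv_cancel_right] at hc
    exact hc.eq
  obtain ⟨d, X, Y, Q, hUQ, hQE, hX, hY, hXa, hYa, hXY, hQX, hQY, hgen, hQinv⟩ :=
    exists_coords_two hζU hζ2 hζ1 hidx E hUE hEU hdich hsqU hcent hsplit
  let D : Data A V U 2 d :=
    { ζ := ζ, E := E, K := Q, X := X, Y := Y, order := hζord, zmem := hζU, normal := hEn, le := hUQ,
      leE := hQE, centU := hEU, memX := hX, memY := hY, addX := hXa, addY := hYa, rel := hXY,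
      commX := hQX, commY := hQY, gen := hgen
      semireg := fun k hk v hv h => by
        have h2 : k * k = 1 := by
          by_contra h1
          exact hv (F.eq_zero_of_smul_eq (hsqU k (hQE hk)) h1 (by rw [mul_smul, h, h]))
        by_contra h1
        exact hv (F.eq_zero_of_smul_eq (hQinv k hk h2) h1 h) }
  obtain ⟨u₀, hu₀, h00⟩ := (AddSubgroup.bot_or_exists_ne_zero D.W).resolve_left (D.W_ne_bot F)
  have hB : ∀ g ∈ Subgroup.centralizer (D.E : Set A), g • u₀ = u₀ → ∀ x ∈ D.W, g • x = x := by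
    intro g hg h x _
    have hgU : g ∈ U := hMU.le hg
    by_cases h1 : g = 1
    · rw [h1, one_smul]
    · exact absurd (F.eq_zero_of_smul_eq hgU h1 h) h00
  by_cases hQ : Q = U
  · have hd : 1 ≤ d := by
      by_contra hd
      have hd0 : d = 0 := by omega
      subst hd0
      refine hne ?_
      have key : ∀ x ∈ E, x ∈ U := fun x hx => by
        obtain ⟨q, hq, a, b, rfl⟩ := hgen x hx
        rw [show a = 0 from Subsingleton.elim _ _, show b = 0 from Subsingleton.elim _ _,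
          show Y 0 = 1 from D.Y_zero, show X 0 = 1 from D.X_zero, mul_one, mul_one]
        exact hQ.le hq
      exact F.comm _ (key x₁ hx₁) _ (key y₁ hy₁)
    refine tri_of_data F D hu₀ h00 (zero_mem _) (zero_mem _)
      (fun g _ _ _ hgU k hk => ⟨0, ?_⟩) fun g hg h _ _ => hB g hg h
    rw [hgU hd k (hQ.le hk), D.X_zero, mul_one]
  obtain ⟨q₁, hq₁, q₂, hq₂, hQgen⟩ := two_generators hζ2 hζU hUQ (fun q hq => hEU q (hQE hq))
    (fun a ha b hb => hdich a (hQE ha) b (hQE hb)) (fun q hq => hsqU q (hQE hq))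
    (fun q hq h => hcent q (hQE hq) fun e he => by
      obtain ⟨q', hq', a, b, rfl⟩ := hgen e he
      exact ((show Commute q q' from h q' hq').mul_right
        ((show Commute q (Y a) from hQY q hq a).mul_right (hQX q hq b))).eq)
    hQinv hQ
  refine tri_of_data F D hu₀ h00 (D.W_K hu₀ hq₁) (D.W_K hu₀ hq₂) (fun g hg h1 h2 _ k hk => ?_)
    fun g hg' h _ _ => hB g hg' h
  let S : Subgroup A :=
    { carrier := {k | k ∈ Q ∧ ∃ b, g * k * g⁻¹ = k * X b}
      one_mem' := ⟨one_mem _, 0, by rw [show X 0 = 1 from D.X_zero]; group⟩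
      mul_mem' := fun {k k'} hk hk' => ⟨mul_mem hk.1 hk'.1, by
        obtain ⟨b, hb⟩ := hk.2
        obtain ⟨b', hb'⟩ := hk'.2
        refine ⟨b + b', ?_⟩
        rw [show g * (k * k') * g⁻¹ = (g * k * g⁻¹) * (g * k' * g⁻¹) by group, hb, hb', hXa, mul_assoc k (X b),
          ← mul_assoc (X b), ← hQX k' hk'.1 b]
        simp only [mul_assoc]⟩
      inv_mem' := fun {k} hk => ⟨inv_mem hk.1, by
        obtain ⟨b, hb⟩ := hk.2
        refine ⟨-b, ?_⟩
        have hXn : X (-b) = (X b)⁻¹ := eq_inv_of_mul_eq_one_left (by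
          rw [← hXa, neg_add_cancel]; exact D.X_zero)
        rw [show g * k⁻¹ * g⁻¹ = (g * k * g⁻¹)⁻¹ by group, hb, mul_inv_rev, hXn]
        exact ((show Commute k (X b) from hQX k hk.1 b).inv_inv).eq.symm⟩ }
  have hgen' : ∀ q ∈ Q, g • q • u₀ = q • u₀ → q ∈ S := fun q hq h => ⟨hq, D.eq_mul_X F hu₀ h00
    (hEn.conj_mem q (hQE hq) g) hq (by
      rw [mul_smul, mul_smul, show g⁻¹ • u₀ = u₀ from inv_smul_eq_iff.2 hg.symm, h])⟩
  have hle : Subgroup.closure {q₁, q₂} ≤ S := (Subgroup.closure_le _).2 (by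
    rintro _ (rfl | rfl)
    · exact hgen' _ hq₁ h1
    · exact hgen' _ hq₂ h2)
  exact (hle (hQgen hk)).2

end CfsgLib.BaseThree
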