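import Cfsg.Agent.Lib.BaseThree.Blocks
import Cfsg.Agent.Lib.BaseThree.Colour
import Cfsg.Agent.Lib.BaseThree.OddCase
import Cfsg.Agent.Lib.BaseThree.TwoCase

/-!
Solvable groups acting completely reducibly have bases of size three.
-/

set_option autoImplicit false
set_option linter.unusedSectionVars false
set_option linter.style.haveILetI false

namespace CfsgLib.BaseThree

open CfsgLib.BaseTwo (Inv CROn Irr FieldCase endo conjEnd conjEnd_apply scalars endo_mem_scalars
  conjEnd_mem_scalars sympData_of_minimal)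

universe u

/-- the irreducible step -/
theorem tri_irreducible {A V : Type u} [Group A] [Finite A] [AddCommGroup V] [Finite V] [DistribMulAction A V]
    (hA : Group.IsSolvable A) {N : ℕ} (hcard : Nat.card A ≤ N) (hL : LinHyp3.{u} (N - 1)) (hG : ColHyp.{u} N)
    (hf : ∀ a : A, (∀ v : V, a • v = v) → a = 1) (hirr : Irr A V) :
    TriOn (⊤ : Subgroup A) (⊤ : AddSubgroup V) := by
  classical
  by_cases hV : ∃ v : V, v ≠ 0
  swap
  · push Not at hV
    exact ⟨fun _ => 0, fun _ => trivial, fun a _ _ x _ => by rw [hV x, smul_zero]⟩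
  obtain ⟨U, hU, hUmax⟩ := Set.Finite.exists_maximal
    (s := {W : Subgroup A | W.Normal ∧ ∀ x ∈ W, ∀ y ∈ W, x * y = y * x}) (Set.toFinite _)
    ⟨⊥, inferInstance, fun x hx y hy => by rw [Subgroup.mem_bot.1 hx, Subgroup.mem_bot.1 hy]⟩
  rcases scalars_cases hA hcard hL hG hirr hU.1 hU.2 with h | h
  · exact h
  have F : FieldCase A V U := ⟨hV, hU.1, hU.2, h, hf⟩
  have hmax : ∀ W : Subgroup A, W.Normal → U ≤ W → (∀ x ∈ W, ∀ y ∈ W, x * y = y * x) → W = U :=
    fun W hW hle hc => le_antisymm (hUmax ⟨hW, hc⟩ hle) hle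
  by_cases hC : Subgroup.centralizer (U : Set A) = U
  · obtain ⟨γ, hγ, hγ0, hgen⟩ := F.exists_units_generator
    obtain ⟨v, hv⟩ := hV
    refine ⟨![v, γ v, 0], fun _ => trivial, fun a _ hfix x _ => ?_⟩
    have h1 : a • v = v := hfix 0
    have h2 : a • γ v = γ v := hfix 1
    have hconj : conjEnd a γ = γ := by
      refine sub_eq_zero.1 (F.eq_zero_of_apply (sub_mem (conjEnd_mem_scalars F.normal a hγ) hγ) hv ?_)
      show conjEnd a γ v - γ v = 0
      rw [conjEnd_apply, show a⁻¹ • v = v by rw [inv_smul_eq_iff, h1], h2, sub_self]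
    have haU : a ∈ U := by
      rw [← hC]
      refine Subgroup.mem_centralizer_iff.2 fun u hu => ?_
      refine (mul_inv_eq_iff_eq_mul.1 (F.endo_inj (a := a * u * a⁻¹) (b := u) ?_)).symm
      rw [map_mul, map_mul]
      show conjEnd a (endo A V u) = _
      rcases eq_or_ne (endo A V u) 0 with h | h
      · rw [h, map_zero]
      obtain ⟨n, hn⟩ := hgen _ (endo_mem_scalars hu) h
      rw [hn, map_pow, hconj]
    by_cases ha : a = 1
    · rw [ha, one_smul]
    · exact absurd (F.eq_zero_of_smul_eq haU ha h1) hv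
  by_cases hodd : ∃ E : Subgroup A, E.Normal ∧ U < E ∧ E ≤ Subgroup.centralizer (U : Set A) ∧
      (∀ K : Subgroup A, K.Normal → U ≤ K → K ≤ E → K = U ∨ K = E) ∧ ∃ x ∈ E, x * x ∉ U
  · obtain ⟨E, hEn, hUE, hEC, hmin, hsq⟩ := hodd
    obtain ⟨r, d, ⟨S⟩⟩ := sympData_of_minimal hA F hmax E hEn hUE hEC hmin hsq
    exact tri_of_sympData hA hcard hL hirr F S
  · refine tri_of_two hA F hmax hC fun E hEn hUE hEC hmin x hx => ?_
    by_contra h
    exact hodd ⟨E, hEn, hUE, hEC, hmin, x, hx, h⟩

theorem hyps : ∀ N : ℕ, LinHyp3.{u} N ∧ ColHyp.{u} N := by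
  intro N
  induction N using Nat.strong_induction_on with
  | _ N ih =>
    rcases Nat.eq_zero_or_pos N with rfl | hN
    · constructor
      · intro A V _ _ _ _ _ hA hcard _
        exact absurd hcard (by have := Nat.card_pos (α := A); omega)
      · intro A Ω _ _ _ _ hA hcard
        exact absurd hcard (by have := Nat.card_pos (α := A); omega)
    have hL := (ih (N - 1) (by omega)).1
    have hG : ColHyp.{u} N := colHyp_step hL fun m hm => (ih m hm).2
    refine ⟨?_, hG⟩
    intro A V _ _ _ _ _ hA hcard hcr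
    refine triOn_of_irr (fun W hW hmin => ?_) ⊤ (fun _ _ _ _ => trivial) hcr
    letI : DistribMulAction A W :=
      { smul := fun a x => ⟨a • (x : V), hW a trivial x x.2⟩
        one_smul := fun x => Subtype.ext (one_smul A (x : V))
        mul_smul := fun a b x => Subtype.ext (mul_smul a b (x : V))
        smul_zero := fun a => Subtype.ext (smul_zero a)
        smul_add := fun a x y => Subtype.ext (smul_add a (x : V) y) }
    let φ := MulAction.toPermHom A W
    let A' := A ⧸ φ.ker
    letI : MulAction A' W := MulAction.compHom W (QuotientGroup.kerLift φ)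
    have hψ : ∀ a : A, ∀ x : W, (QuotientGroup.mk a : A') • x = a • x := fun a x => rfl
    letI : DistribMulAction A' W :=
      { (inferInstance : MulAction A' W) with
        smul_zero := fun a' => QuotientGroup.induction_on a' fun a => (hψ a 0).trans (smul_zero a)
        smul_add := fun a' x y => QuotientGroup.induction_on a' fun a => by
          show (QuotientGroup.mk a : A') • (x + y) = (QuotientGroup.mk a : A') • x + (QuotientGroup.mk a : A') • y
          rw [hψ, hψ, hψ, smul_add] }
    have hirr : Irr A' W := by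
      intro Y hY
      rcases hmin (Y.map W.subtype) (by rintro _ ⟨y, -, rfl⟩; exact y.2) (by
        rintro a - _ ⟨y, hy, rfl⟩
        exact ⟨_, hY (QuotientGroup.mk a) trivial y hy, by rw [hψ]; rfl⟩) with h | h
      · refine Or.inl ((AddSubgroup.eq_bot_iff_forall _).2 fun y hy => Subtype.ext ?_)
        have h' : (y : V) ∈ Y.map W.subtype := ⟨y, hy, rfl⟩
        rwa [h, AddSubgroup.mem_bot] at h'
      · refine Or.inr (eq_top_iff.2 fun y _ => ?_)
        obtain ⟨z, hz, e⟩ : (y : V) ∈ Y.map W.subtype := by rw [h]; exact y.2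
        rwa [show z = y from Subtype.ext e] at hz
    haveI := hA
    have hA' : Group.IsSolvable A' := Group.isSolvable_of_surjective (QuotientGroup.mk'_surjective _)
    obtain ⟨t, -, hb⟩ := tri_irreducible (A := A') (V := W) hA'
      (le_trans (Nat.le_of_dvd Nat.card_pos (Subgroup.card_quotient_dvd_card _)) hcard) hL hG
      (fun a' h => QuotientGroup.kerLift_injective φ (by
        rw [map_one]
        exact Equiv.ext h)) hirr
    exact ⟨fun i => t i, fun i => (t i).2, fun a _ h x hx =>
      congrArg Subtype.val (hb (QuotientGroup.mk a) trivial (fun i => Subtype.ext (h i)) ⟨x, hx⟩ trivial)⟩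

/-- a completely reducible solvable group has a base of size three -/
theorem exists_three {A : Type*} {V : Type u} [Group A] [Finite A] [AddCommGroup V] [Finite V]
    [DistribMulAction A V] [FaithfulSMul A V] (hA : Group.IsSolvable A)
    (hcr : CROn (⊤ : Subgroup A) (⊤ : AddSubgroup V)) :
    ∃ v₁ v₂ v₃ : V, ∀ a : A, a • v₁ = v₁ → a • v₂ = v₂ → a • v₃ = v₃ → a = 1 := by
  let φ := MulAction.toPermHom A V
  have hinj : Function.Injective φ := fun a b h => eq_of_smul_eq_smul fun v : V =>
    DFunLike.congr_fun h v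
  let A' := φ.range
  letI : DistribMulAction A' V :=
    { smul := fun g x => (g : Equiv.Perm V) x
      one_smul := fun x => rfl
      mul_smul := fun g h x => rfl
      smul_zero := fun g => by obtain ⟨_, a, rfl⟩ := g; exact smul_zero a
      smul_add := fun g x y => by obtain ⟨_, a, rfl⟩ := g; exact smul_add a x y }
  haveI := hA
  have hsol : Group.IsSolvable A' := Group.isSolvable_of_surjective φ.rangeRestrict_surjective
  have hcr' : CROn (⊤ : Subgroup A') (⊤ : AddSubgroup V) := by
    intro X hX hXi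
    obtain ⟨Y, hY, hYi, h1, h2⟩ := hcr X hX (fun a _ x hx => hXi ⟨φ a, a, rfl⟩ trivial x hx)
    exact ⟨Y, hY, fun a' _ x hx => by
      obtain ⟨_, a, rfl⟩ := a'
      exact hYi a trivial x hx, h1, h2⟩
  obtain ⟨t, -, h⟩ := (hyps.{u} (Nat.card A')).1 A' V hsol le_rfl hcr'
  refine ⟨t 0, t 1, t 2, fun a h0 h1 h2 => hinj ?_⟩
  rw [map_one]
  exact Equiv.ext fun x => h ⟨φ a, a, rfl⟩ trivial (fun i => by fin_cases i <;> assumption) x trivial

end CfsgLib.BaseThree
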