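import Cfsg.Agent.Lib.BaseTwo.Basic
import Cfsg.Agent.Lib.PGroup.AnisotropicPair

/-!
Bases of size three for solvable groups: definitions, and five inequivalent translates under a perfect group.
-/

set_option autoImplicit false
set_option linter.unusedSectionVars false
set_option linter.style.haveILetI false

namespace CfsgLib.BaseThree

open CfsgLib.BaseTwo (Inv CROn)

universe u

variable {A : Type*} [Group A] {V : Type*} [AddCommGroup V] [DistribMulAction A V]

/-- three vectors of `W` are only fixed together by elements acting trivially on `W` -/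
def TriOn (H : Subgroup A) (W : AddSubgroup V) : Prop :=
  ∃ t : Fin 3 → V, (∀ i, t i ∈ W) ∧ ∀ a ∈ H, (∀ i, a • t i = t i) → ∀ x ∈ W, a • x = x

/-- the hypothesis of the induction for linear actions -/
def LinHyp3 (N : ℕ) : Prop :=
  ∀ (A V : Type u) [Group A] [Finite A] [AddCommGroup V] [Finite V] [DistribMulAction A V],
    Group.IsSolvable A → Nat.card A ≤ N → CROn (⊤ : Subgroup A) (⊤ : AddSubgroup V) →
      TriOn (⊤ : Subgroup A) (⊤ : AddSubgroup V)

/-- the hypothesis of the induction for permutation actions -/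
def ColHyp (N : ℕ) : Prop :=
  ∀ (A Ω : Type u) [Group A] [Finite A] [Finite Ω] [MulAction A Ω],
    Group.IsSolvable A → Nat.card A ≤ N →
      ∃ c : Ω → Fin 5, ∀ a : A, (∀ x, c (a • x) = c x) → ∀ x : Ω, a • x = x

theorem solvable_subgroup {G : Type*} [Group G] (hG : Group.IsSolvable G) (H : Subgroup G) :
    Group.IsSolvable H :=
  haveI := hG
  inferInstance

/-- the induction hypothesis applied inside a larger group -/
theorem LinHyp3.on {A V : Type u} [Group A] [Finite A] [AddCommGroup V] [Finite V] [DistribMulAction A V]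
    {N : ℕ} (hL : LinHyp3.{u} N) (hA : Group.IsSolvable A) {H : Subgroup A} (hcard : Nat.card H ≤ N)
    {W : AddSubgroup V} (hW : Inv H W) (hcr : CROn H W) : TriOn H W := by
  letI : DistribMulAction H W :=
    { smul := fun a x => ⟨(a : A) • (x : V), hW a a.2 x x.2⟩
      one_smul := fun x => Subtype.ext (one_smul A (x : V))
      mul_smul := fun a b x => Subtype.ext (mul_smul (a : A) b (x : V))
      smul_zero := fun a => Subtype.ext (smul_zero (a : A))
      smul_add := fun a x y => Subtype.ext (smul_add (a : A) (x : V) y) }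
  have hcr' : CROn (⊤ : Subgroup H) (⊤ : AddSubgroup W) := by
    intro U _ hU
    obtain ⟨U', hU'W, hU'inv, hinf, hsup⟩ := hcr (U.map W.subtype) (by
      rintro _ ⟨x, -, rfl⟩; exact x.2) (by
      rintro a ha _ ⟨x, hx, rfl⟩
      exact ⟨_, hU ⟨a, ha⟩ trivial x hx, rfl⟩)
    refine ⟨U'.comap W.subtype, le_top, fun a _ x hx => hU'inv a a.2 (x : V) hx, ?_, ?_⟩
    · refine (AddSubgroup.eq_bot_iff_forall _).2 fun x hx => Subtype.ext ?_
      have h : (x : V) ∈ U.map W.subtype ⊓ U' := ⟨⟨x, hx.1, rfl⟩, hx.2⟩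
      rw [hinf, AddSubgroup.mem_bot] at h
      exact h
    · refine eq_top_iff.2 fun x _ => ?_
      have h : (x : V) ∈ U.map W.subtype ⊔ U' := by rw [hsup]; exact x.2
      obtain ⟨_, ⟨y, hy, rfl⟩, z, hz, e⟩ := AddSubgroup.mem_sup.1 h
      exact AddSubgroup.mem_sup.2 ⟨y, hy, ⟨z, hU'W hz⟩, hz, Subtype.ext e⟩
  obtain ⟨t, -, h⟩ := hL H W (solvable_subgroup hA H) hcard hcr'
  exact ⟨fun i => t i, fun i => (t i).2, fun a ha ht x hx =>
    congrArg Subtype.val (h ⟨a, ha⟩ trivial (fun i => Subtype.ext (ht i)) ⟨x, hx⟩ trivial)⟩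

/-- from irreducible pieces to completely reducible actions -/
theorem triOn_of_irr [Finite V] {H : Subgroup A}
    (hirr : ∀ W : AddSubgroup V, Inv H W → (∀ U ≤ W, Inv H U → U = ⊥ ∨ U = W) → TriOn H W) :
    ∀ W : AddSubgroup V, Inv H W → CROn H W → TriOn H W := by
  intro W
  induction h : Nat.card W using Nat.strong_induction_on generalizing W with
  | _ n ih =>
    intro hW hcr
    by_cases hmin : ∀ U ≤ W, Inv H U → U = ⊥ ∨ U = W
    · exact hirr W hW hmin
    push Not at hmin
    obtain ⟨U, hUW, hU, hU0, hUne⟩ := hmin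
    obtain ⟨U', hU'W, hU', hinf, hsup⟩ := hcr U hUW hU
    have hlt : ∀ X : AddSubgroup V, X ≤ W → X ≠ W → Nat.card X < n := fun X hX hne =>
      h ▸ Set.ncard_lt_ncard (SetLike.coe_ssubset_coe.2 (lt_of_le_of_ne hX hne)) (Set.toFinite _)
    have hU'ne : U' ≠ W := fun e => hU0 (by
      rw [← hinf, e]; exact (inf_eq_left.2 hUW).symm)
    obtain ⟨t, ht, h1⟩ := ih _ (hlt U hUW hUne) U rfl hU (hcr.mono hUW hU)
    obtain ⟨t', ht', h2⟩ := ih _ (hlt U' hU'W hU'ne) U' rfl hU' (hcr.mono hU'W hU')
    refine ⟨fun i => t i + t' i, fun i => add_mem (hUW (ht i)) (hU'W (ht' i)), fun a ha e x hx => ?_⟩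
    have key : ∀ {y y' : V}, y ∈ U → y' ∈ U' → a • (y + y') = y + y' → a • y = y ∧ a • y' = y' := by
      intro y y' hy hy' e
      have h0 : a • y - y ∈ U ⊓ U' := AddSubgroup.mem_inf.2
        ⟨sub_mem (hU a ha y hy) hy, by
          rw [show a • y - y = y' - a • y' by
            rw [smul_add] at e; linear_combination (norm := abel) e]
          exact sub_mem hy' (hU' a ha y' hy')⟩
      rw [hinf, AddSubgroup.mem_bot, sub_eq_zero] at h0
      rw [smul_add, h0, add_right_inj] at e
      exact ⟨h0, e⟩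
    have k := fun i => key (ht i) (ht' i) (e i)
    rw [← hsup] at hx
    obtain ⟨y, hy, y', hy', rfl⟩ := AddSubgroup.mem_sup.1 hx
    rw [smul_add, h1 a ha (fun i => (k i).1) y hy, h2 a ha (fun i => (k i).2) y' hy']

/-- a homomorphism from a perfect group onto a solvable group is trivial -/
theorem perfect_hom_trivial {P G : Type*} [Group P] [Group G] (hP : commutator P = ⊤) (φ : P →* G)
    (hG : Group.IsSolvable φ.range) (x : P) : φ x = 1 := by
  by_contra hx
  haveI := hG
  let ψ := φ.rangeRestrict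
  have hsurj : Function.Surjective ψ := φ.rangeRestrict_surjective
  have h : ⁅(⊤ : Subgroup φ.range), (⊤ : Subgroup φ.range)⁆ = ⊤ := by
    rw [← Subgroup.map_top_of_surjective ψ hsurj, ← Subgroup.map_commutator]
    exact congrArg (Subgroup.map ψ) (show ⁅(⊤ : Subgroup P), (⊤ : Subgroup P)⁆ = ⊤ by rw [← commutator_def, hP])
  refine (Group.IsSolvable.commutator_lt_of_ne_bot (H := (⊤ : Subgroup φ.range)) fun e => hx ?_).ne h
  have hm : ψ x ∈ (⊤ : Subgroup φ.range) := trivial
  rw [e, Subgroup.mem_bot] at hm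
  exact congrArg Subtype.val hm

/-- five translates of `s` in distinct orbits -/
theorem exists_five {P H S : Type*} [Group P] [Group H] [Finite S] [MulAction P S] [MulAction H S]
    (hcomm : ∀ (π : P) (h : H) (s : S), π • h • s = h • π • s) (hP : commutator P = ⊤)
    (hH : Group.IsSolvable H) (s : S) (hN : (MulAction.stabilizer H s).Normal) (hne : ∃ π : P, π • s ≠ s) :
    ∃ f : Fin 5 → P, ∀ (i j : Fin 5) (h : H), h • f i • s = f j • s → i = j := by
  classical
  let r : Setoid S := MulAction.orbitRel H S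
  letI : MulAction P (Quotient r) :=
    { smul := fun π => Quotient.map (fun x => π • x) fun x y hxy => by
        obtain ⟨h, hh⟩ := hxy
        exact ⟨h, show h • π • y = π • x by rw [← hcomm, show h • y = x from hh]⟩
      one_smul := fun q => Quotient.inductionOn q fun x => congrArg (Quotient.mk _) (one_smul P x)
      mul_smul := fun a b q => Quotient.inductionOn q fun x => congrArg (Quotient.mk _) (mul_smul a b x) }
  haveI : Finite (Quotient r) := Quotient.finite _
  let O := MulAction.orbit P (Quotient.mk r s)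
  haveI : Fintype O := Fintype.ofFinite O
  by_cases h5 : 5 ≤ Fintype.card O
  · obtain ⟨e⟩ := Function.Embedding.nonempty_of_card_le (α := Fin 5) (β := O) (by simpa using h5)
    choose f hf using fun i => (e i).2
    refine ⟨f, fun i j h hh => e.injective (Subtype.ext ?_)⟩
    rw [← hf i, ← hf j]
    exact Quotient.sound ⟨h⁻¹, show h⁻¹ • f j • s = f i • s by rw [← hh, inv_smul_smul]⟩
  exfalso
  have hsol : Group.IsSolvable (Equiv.Perm O) :=
    CfsgLib.PGroup.Aniso.solvable_perm_le_four (by rw [Nat.card_eq_fintype_card]; omega)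
  have hfix : ∀ π : P, ∃ h : H, h • s = π • s := by
    intro π
    have h1 := perfect_hom_trivial hP (MulAction.toPermHom P O) (solvable_subgroup hsol _) π
    have h2 : π • (Quotient.mk r s) = Quotient.mk r s :=
      congrArg (fun p : Equiv.Perm O => ((p ⟨_, MulAction.mem_orbit_self _⟩ : O) : Quotient r)) h1
    obtain ⟨h, hh⟩ := Quotient.exact h2
    exact ⟨h, hh⟩
  choose g hg using hfix
  haveI := hN
  let q := QuotientGroup.mk' (MulAction.stabilizer H s)
  have hq : ∀ {a b : H}, a • s = b • s → q a = q b := fun {a b} e => (QuotientGroup.eq).2 (by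
    rw [MulAction.mem_stabilizer_iff, mul_smul, ← e, inv_smul_smul])
  let ψ : P →* H ⧸ MulAction.stabilizer H s :=
    MonoidHom.mk' (fun π => (q (g π))⁻¹) fun π₁ π₂ => by
      rw [← mul_inv_rev, ← map_mul]
      congr 1
      refine hq ?_
      rw [hg, mul_smul, mul_smul, hg, ← hcomm, ← hg π₂]
  obtain ⟨π, hπ⟩ := hne
  haveI := hH
  haveI : Group.IsSolvable (H ⧸ MulAction.stabilizer H s) :=
    Group.isSolvable_of_surjective (QuotientGroup.mk'_surjective _)
  have h1 := perfect_hom_trivial hP ψ inferInstance π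
  refine hπ ?_
  rw [← hg π]
  exact (QuotientGroup.eq_one_iff _).1 (inv_eq_one.1 h1)

end CfsgLib.BaseThree
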