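import Cfsg.Agent.Lib.BaseTwo.Blocks
import Cfsg.Agent.Lib.BaseThree.Basic

/-!
Bases of size three: the imprimitive case, by five triples which are pairwise not conjugate.
-/

set_option autoImplicit false
set_option linter.unusedSectionVars false
set_option linter.style.haveILetI false

namespace CfsgLib.BaseThree

open CfsgLib.BaseTwo (Inv CROn Irr endo conjEnd conjEnd_apply conjEnd_one conjEnd_mul scalars scalars_comm
  scalars_reduced conjEnd_mem_scalars exists_pow_idempotent)

open scoped commutatorElement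

universe u

variable {A V : Type u} [Group A] [Finite A] [AddCommGroup V] [Finite V] [DistribMulAction A V]

/-- five triples which are not conjugate and have trivial stabiliser -/
theorem five_triples {H : Subgroup A} {W : AddSubgroup V} (hW : Inv H W) (hH : Group.IsSolvable H)
    (hT : TriOn H W) (hW0 : W ≠ ⊥) :
    ∃ f : Fin 5 → Fin 3 → V, (∀ i k, f i k ∈ W) ∧
      ∀ i j, ∀ a ∈ H, (∀ k, a • f i k = f j k) → i = j ∧ ∀ x ∈ W, a • x = x := by
  classical
  letI : MulAction H W :=
    { smul := fun a x => ⟨(a : A) • (x : V), hW a a.2 x x.2⟩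
      one_smul := fun x => Subtype.ext (one_smul A (x : V))
      mul_smul := fun a b x => Subtype.ext (mul_smul (a : A) b (x : V)) }
  have hcoe : ∀ (a : H) (x : W), ((a • x : W) : V) = (a : A) • (x : V) := fun _ _ => rfl
  have hadd : ∀ (a : H) (x y : W), a • (x + y) = a • x + a • y := fun a x y =>
    Subtype.ext (smul_add (a : A) (x : V) y)
  obtain ⟨t₀, ht₀, hb₀⟩ := hT
  obtain ⟨x₀, hx₀, hne₀⟩ := (AddSubgroup.bot_or_exists_ne_zero W).resolve_left hW0
  obtain ⟨s, hs0, hb⟩ : ∃ s : Fin 3 → W, (∃ i, s i ≠ 0) ∧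
      ∀ a : H, a • s = s → ∀ x : W, a • x = x := by
    by_cases h0 : ∃ i, t₀ i ≠ 0
    · obtain ⟨i, hi⟩ := h0
      refine ⟨fun k => ⟨t₀ k, ht₀ k⟩, ⟨i, fun e => hi (congrArg Subtype.val e)⟩, fun a ha x => Subtype.ext ?_⟩
      exact hb₀ a a.2 (fun k => congrArg Subtype.val (congrFun ha k)) x x.2
    · push Not at h0
      refine ⟨fun _ => ⟨x₀, hx₀⟩, ⟨0, fun e => hne₀ (congrArg Subtype.val e)⟩, fun a _ x => Subtype.ext ?_⟩
      exact hb₀ a a.2 (fun k => by rw [h0 k, smul_zero]) x x.2
  let T : (i j : Fin 3) → i ≠ j → Equiv.Perm (Fin 3 → W) := fun i j h =>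
    { toFun := fun u => Function.update u j (u j + u i)
      invFun := fun u => Function.update u j (u j - u i)
      left_inv := fun u => by
        funext l
        by_cases hl : l = j
        · subst hl; simp [Function.update_of_ne h]
        · simp [Function.update_of_ne hl]
      right_inv := fun u => by
        funext l
        by_cases hl : l = j
        · subst hl; simp [Function.update_of_ne h]
        · simp [Function.update_of_ne hl] }
  let gens : Set (Equiv.Perm (Fin 3 → W)) := {π | ∃ i j h, T i j h = π}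
  let P := Subgroup.closure gens
  have hperf : commutator P = ⊤ := by
    refine eq_top_iff.2 fun π _ => ?_
    have hle : P ≤ (commutator P).map P.subtype := (Subgroup.closure_le _).2 fun π hπ => by
      obtain ⟨i, j, h, rfl⟩ := hπ
      obtain ⟨k, hki, hkj⟩ := (by decide : ∀ i j : Fin 3, ∃ k, k ≠ i ∧ k ≠ j) i j
      have m1 : T i k hki.symm ∈ P := Subgroup.subset_closure ⟨i, k, hki.symm, rfl⟩
      have m2 : T k j hkj ∈ P := Subgroup.subset_closure ⟨k, j, hkj, rfl⟩
      refine ⟨(⁅(⟨_, m1⟩ : P), ⟨_, m2⟩⁆)⁻¹, inv_mem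
        (Subgroup.commutator_mem_commutator (Subgroup.mem_top _) (Subgroup.mem_top _)), ?_⟩
      rw [map_inv, map_commutatorElement, inv_eq_iff_eq_inv]
      refine Equiv.ext fun u => funext fun l => ?_
      simp only [commutatorElement_def, Equiv.Perm.mul_apply, Equiv.Perm.inv_def, Subgroup.coe_subtype, T,
        Equiv.coe_fn_mk, Equiv.coe_fn_symm_mk]
      by_cases hlk : l = k
      · subst hlk
        simp [Function.update_of_ne hkj, Function.update_of_ne hki.symm, Function.update_of_ne h]
      · by_cases hlj : l = j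
        · subst hlj
          simp [Function.update_of_ne hkj, Function.update_of_ne hkj.symm, Function.update_of_ne h,
            Function.update_of_ne hki.symm]
        · simp [Function.update_of_ne hlk, Function.update_of_ne hlj]
    obtain ⟨π', hπ', e⟩ := hle π.2
    rwa [show π = π' from Subtype.ext e.symm]
  have hcomm : ∀ (π : P) (a : H) (u : Fin 3 → W), π • a • u = a • π • u := by
    rintro ⟨π, hπ⟩
    show ∀ (a : H) (u : Fin 3 → W), π (a • u) = a • π u
    induction hπ using Subgroup.closure_induction with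
    | mem π hπ =>
      obtain ⟨i, j, h, rfl⟩ := hπ
      intro a u
      funext l
      by_cases hl : l = j
      · subst hl; simp [T, hadd]
      · simp [T, Function.update_of_ne hl]
    | one => exact fun _ _ => rfl
    | mul p q _ _ hp hq => intro a u; rw [Equiv.Perm.mul_apply, Equiv.Perm.mul_apply, hq, hp]
    | inv p _ hp =>
      intro a u
      refine p.injective ?_
      rw [hp, Equiv.Perm.inv_def, Equiv.apply_symm_apply, Equiv.apply_symm_apply]
  have hN : (MulAction.stabilizer H s).Normal := ⟨fun n hn g => by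
    have hn' := hb n hn
    rw [MulAction.mem_stabilizer_iff]
    funext k
    show (g * n * g⁻¹) • s k = s k
    rw [mul_smul, mul_smul, hn', smul_inv_smul]⟩
  obtain ⟨i, hi⟩ := hs0
  obtain ⟨j, hj⟩ : ∃ j, i ≠ j := exists_ne i |>.imp fun _ h => h.symm
  obtain ⟨F, hF⟩ := exists_five hcomm hperf hH s hN
    ⟨⟨T i j hj, Subgroup.subset_closure ⟨i, j, hj, rfl⟩⟩, fun e => hi (by
      have h : Function.update s j (s j + s i) j = s j := congrFun e j
      simpa using h)⟩
  refine ⟨fun i k => ((F i • s) k : W), fun i k => ((F i • s) k).2, fun i j a ha h => ?_⟩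
  have e : (⟨a, ha⟩ : H) • F i • s = F j • s := funext fun k => Subtype.ext (h k)
  obtain rfl := hF i j _ e
  refine ⟨rfl, fun x hx => congrArg Subtype.val (hb ⟨a, ha⟩ ?_ ⟨x, hx⟩)⟩
  rw [← hcomm] at e
  exact (smul_left_cancel_iff (F i)).1 e

/-- the imprimitive case -/
theorem tri_of_idempotent (hA : Group.IsSolvable A) {N : ℕ} (hcard : Nat.card A ≤ N) (hL : LinHyp3.{u} (N - 1))
    (hG : ColHyp.{u} N) (hirr : Irr A V) {U : Subgroup A} (hU : U.Normal)
    (hUc : ∀ x ∈ U, ∀ y ∈ U, x * y = y * x) {e : AddMonoid.End V} (he : e ∈ scalars V U)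
    (hee : e * e = e) (he0 : e ≠ 0) (he1 : e ≠ 1)
    (hprim : ∀ f ∈ scalars V U, f * f = f → f * e = f → f = 0 ∨ f = e) :
    TriOn (⊤ : Subgroup A) (⊤ : AddSubgroup V) := by
  classical
  haveI : Finite (AddMonoid.End V) := Finite.of_injective (fun f => (f : V → V)) DFunLike.coe_injective
  let Ω := Set.range fun a : A => conjEnd (V := V) a e
  letI : MulAction A Ω :=
    { smul := fun a i => ⟨conjEnd a i.1, by
        obtain ⟨b, hb⟩ := i.2
        exact ⟨a * b, show conjEnd (a * b) e = _ by rw [conjEnd_mul]; exact congrArg _ hb⟩⟩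
      one_smul := fun i => Subtype.ext (conjEnd_one i.1)
      mul_smul := fun a b i => Subtype.ext (conjEnd_mul a b i.1) }
  haveI : Fintype Ω := Fintype.ofFinite Ω
  have hmemS : ∀ i : Ω, (i : AddMonoid.End V) ∈ scalars V U := by
    rintro ⟨_, a, rfl⟩; exact conjEnd_mem_scalars hU a he
  have hidem : ∀ i : Ω, (i : AddMonoid.End V) * i = i := by
    rintro ⟨_, a, rfl⟩
    show conjEnd a e * conjEnd a e = conjEnd a e
    rw [← map_mul, hee]
  have hpr : ∀ i : Ω, ∀ f ∈ scalars V U, f * f = f → f * i.1 = f → f = 0 ∨ f = i.1 := by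
    rintro ⟨_, a, rfl⟩ f hf hff hfe
    have h := hprim (conjEnd a⁻¹ f) (conjEnd_mem_scalars hU _ hf) (by rw [← map_mul, hff]) (by
      have h := congrArg (conjEnd (V := V) a⁻¹) hfe
      rwa [map_mul, ← conjEnd_mul, inv_mul_cancel, conjEnd_one] at h)
    have hb : conjEnd a (conjEnd a⁻¹ f) = f := by rw [← conjEnd_mul, mul_inv_cancel, conjEnd_one]
    rcases h with h | h
    · left; rw [← hb, h, map_zero]
    · right; show f = conjEnd a e; rw [← hb, h]
  have horth : ∀ i j : Ω, i ≠ j → (i : AddMonoid.End V) * j = 0 := by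
    intro i j hij
    have hc := scalars_comm hUc (hmemS i) (hmemS j)
    have hff : (i : AddMonoid.End V) * j * (i.1 * j.1) = i.1 * j.1 := by
      rw [show (i : AddMonoid.End V) * j * (i.1 * j.1) = i.1 * (j.1 * i.1) * j.1 by simp only [mul_assoc],
        ← hc, ← mul_assoc i.1, hidem i, mul_assoc, hidem j]
    have hS := mul_mem (hmemS i) (hmemS j)
    rcases hpr j _ hS hff (by rw [mul_assoc, hidem j]) with h | h
    · exact h
    rcases hpr i _ hS hff (by rw [mul_assoc, ← hc, ← mul_assoc, hidem i]) with h' | h'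
    · exact h'
    exact absurd (Subtype.ext (h'.symm.trans h)) hij
  let i₀ : Ω := ⟨e, 1, conjEnd_one e⟩
  have htr : ∀ i : Ω, ∃ a : A, a • i₀ = i := by
    rintro ⟨_, a, rfl⟩; exact ⟨a, rfl⟩
  choose t ht using htr
  have hsmul : ∀ (a : A) (i : Ω) (x : V), (a • i).1 (a • x) = a • i.1 x := fun a i x => by
    show conjEnd a i.1 (a • x) = _
    rw [conjEnd_apply, inv_smul_smul]
  -- the sum of the blocks is everything
  have hsum : ∀ x : V, ∑ i : Ω, i.1 x = x := by
    let W : AddSubgroup V :=
      { carrier := {x | ∑ i : Ω, i.1 x = x}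
        zero_mem' := by simp
        add_mem' := fun {x y} hx hy => by
          show ∑ i : Ω, i.1 (x + y) = x + y
          simp only [map_add, Finset.sum_add_distrib]
          rw [hx, hy]
        neg_mem' := fun {x} hx => by
          show ∑ i : Ω, i.1 (-x) = -x
          simp only [map_neg, Finset.sum_neg_distrib]
          rw [hx] }
    have hW : Inv (⊤ : Subgroup A) W := by
      intro a _ x hx
      show ∑ i : Ω, i.1 (a • x) = a • x
      rw [← Equiv.sum_comp (MulAction.toPerm a : Equiv.Perm Ω) fun i => i.1 (a • x)]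
      simp only [MulAction.toPerm_apply, hsmul, ← Finset.smul_sum]
      rw [show ∑ i : Ω, i.1 x = x from hx]
    obtain ⟨x, hx⟩ : ∃ x, e x ≠ 0 := by
      by_contra hno
      push Not at hno
      exact he0 (DFunLike.ext _ _ hno)
    have hmem : e x ∈ W := by
      show ∑ i : Ω, i.1 (e x) = e x
      rw [Finset.sum_eq_single i₀]
      · exact DFunLike.congr_fun hee x
      · exact fun i _ hi => DFunLike.congr_fun (horth i i₀ hi) x
      · exact fun h => absurd (Finset.mem_univ _) h
    rcases hirr W hW with h | h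
    · rw [h, AddSubgroup.mem_bot] at hmem; exact absurd hmem hx
    · intro y; exact (show y ∈ W by rw [h]; trivial)
  let H := MulAction.stabilizer A i₀
  have hHlt : Nat.card H ≤ N - 1 := by
    have hne : H ≠ ⊤ := fun hH => he1 (by
      refine DFunLike.ext _ _ fun y => ?_
      have hsing : ∀ i : Ω, i = i₀ := fun i => by
        rw [← ht i]; exact (show t i ∈ H by rw [hH]; trivial : t i • i₀ = i₀)
      have h := hsum y
      rw [Finset.sum_eq_single i₀ (fun i _ hi => absurd (hsing i) hi)
        (fun h => absurd (Finset.mem_univ _) h)] at h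
      exact h)
    have hlt : Nat.card H < Nat.card A :=
      lt_of_le_of_ne (Subgroup.card_le_card_group H) fun e => hne ((Subgroup.card_eq_iff_eq_top H).1 e)
    omega
  let W₀ : AddSubgroup V := AddMonoidHom.range (e : V →+ V)
  have hfixW : ∀ x ∈ W₀, e x = x := by
    rintro _ ⟨y, rfl⟩; exact DFunLike.congr_fun hee y
  have hW₀ : Inv H W₀ := fun a ha x hx => by
    refine ⟨a • x, ?_⟩
    have h := hsmul a i₀ x
    rw [show a • i₀ = i₀ from ha] at h
    rw [show i₀.1 x = x from hfixW x hx] at h
    exact h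
  have hirr₀ : ∀ Y ≤ W₀, Inv H Y → Y = ⊥ ∨ Y = W₀ := by
    intro Y hY hYinv
    let X : AddSubgroup V := ⨆ a : A, Y.map (DistribSMul.toAddMonoidHom V a)
    have hX : Inv (⊤ : Subgroup A) X := by
      intro b _ x hx
      have : X ≤ X.comap (DistribSMul.toAddMonoidHom V b) := iSup_le fun a => by
        rintro _ ⟨y, hy, rfl⟩
        refine AddSubgroup.mem_iSup_of_mem (b * a) ⟨y, hy, ?_⟩
        simp [mul_smul]
      exact this hx
    rcases hirr X hX with h | h
    · refine Or.inl ((AddSubgroup.eq_bot_iff_forall _).2 fun x hx => ?_)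
      have h' : (1 : A) • x ∈ X := AddSubgroup.mem_iSup_of_mem 1 ⟨x, hx, rfl⟩
      rwa [h, AddSubgroup.mem_bot, one_smul] at h'
    · refine Or.inr (le_antisymm hY fun x hx => ?_)
      have hXY : X ≤ Y.comap e := iSup_le fun a => by
        rintro _ ⟨y, hy, rfl⟩
        show e (a • y) ∈ Y
        by_cases ha : a ∈ H
        · have h' := hYinv a ha y hy
          rw [hfixW _ (hY h')]
          exact h'
        · have h1 : a • y = (a • i₀).1 (a • y) := by
            rw [hsmul]; exact congrArg _ (hfixW y (hY hy)).symm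
          rw [h1, show e ((a • i₀).1 (a • y)) = (i₀.1 * (a • i₀).1) (a • y) from rfl,
            horth i₀ (a • i₀) fun hh => ha hh.symm]
          exact zero_mem _
      have h' : e x ∈ Y := hXY (show x ∈ X by rw [h]; trivial)
      rwa [hfixW x hx] at h'
  have hcr : CROn H W₀ := by
    intro Y hY hYinv
    rcases hirr₀ Y hY hYinv with rfl | rfl
    · exact ⟨W₀, le_rfl, hW₀, bot_inf_eq _, bot_sup_eq _⟩
    · exact ⟨⊥, bot_le, fun a _ x hx => by rw [AddSubgroup.mem_bot] at hx ⊢; rw [hx, smul_zero],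
        inf_bot_eq _, sup_bot_eq _⟩
  obtain ⟨f, hfW, hf⟩ := five_triples hW₀ (solvable_subgroup hA H) (hL.on hA hHlt hW₀ hcr) (fun h => he0 (by
    refine DFunLike.ext _ _ fun v => ?_
    have hv : e v ∈ W₀ := ⟨v, rfl⟩
    rwa [h, AddSubgroup.mem_bot] at hv))
  obtain ⟨c, hc⟩ := hG A Ω hA hcard
  refine ⟨fun k => ∑ i, t i • f (c i) k, fun _ => trivial, fun a _ hak v _ => ?_⟩
  have hcomp : ∀ k i, i.1 (∑ j, t j • f (c j) k) = t i • f (c i) k := by
    intro k i
    have hj : ∀ j, t j • f (c j) k = j.1 (t j • f (c j) k) := fun j => by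
      have h := hsmul (t j) i₀ (f (c j) k)
      rw [ht j, show i₀.1 (f (c j) k) = f (c j) k from hfixW _ (hfW _ _)] at h
      exact h.symm
    rw [map_sum, Finset.sum_eq_single i]
    · exact (hj i).symm
    · intro j _ hne
      rw [hj j]
      exact DFunLike.congr_fun (horth i j hne.symm) _
    · exact fun h => absurd (Finset.mem_univ _) h
  have hmem : ∀ i, (t (a • i))⁻¹ * a * t i ∈ H := fun i => by
    rw [MulAction.mem_stabilizer_iff, mul_smul, mul_smul, ht, inv_smul_eq_iff, ht]
  have hmove : ∀ i k, ((t (a • i))⁻¹ * a * t i) • f (c i) k = f (c (a • i)) k := by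
    intro i k
    have h' := hsmul a i (∑ j, t j • f (c j) k)
    rw [hak k, hcomp, hcomp] at h'
    rw [mul_smul, mul_smul, inv_smul_eq_iff]
    exact h'.symm
  have hkey := fun i => hf _ _ _ (hmem i) (hmove i)
  have hfix := hc a fun i => (hkey i).1.symm
  rw [← hsum v, Finset.smul_sum]
  refine Finset.sum_congr rfl fun i _ => ?_
  have hiv : i.1 v = t i • e ((t i)⁻¹ • v) := by
    conv_lhs => rw [← ht i]
    show conjEnd (t i) e v = _
    rw [conjEnd_apply]
  rw [hiv]
  have h0 := (hkey i).2 (e ((t i)⁻¹ • v)) ⟨_, rfl⟩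
  rw [hfix, mul_smul, mul_smul, inv_smul_eq_iff] at h0
  exact h0

/-- either an idempotent splits the action or the ring is a field -/
theorem scalars_cases (hA : Group.IsSolvable A) {N : ℕ} (hcard : Nat.card A ≤ N) (hL : LinHyp3.{u} (N - 1))
    (hG : ColHyp.{u} N) (hirr : Irr A V) {U : Subgroup A} (hU : U.Normal)
    (hUc : ∀ x ∈ U, ∀ y ∈ U, x * y = y * x) :
    TriOn (⊤ : Subgroup A) (⊤ : AddSubgroup V) ∨
      ∀ s ∈ scalars V U, s ≠ 0 → ∃ s' ∈ scalars V U, s * s' = 1 := by
  classical
  haveI : Finite (AddMonoid.End V) := Finite.of_injective (fun f => (f : V → V)) DFunLike.coe_injective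
  by_cases htriv : ∀ e ∈ scalars V U, e * e = e → e = 0 ∨ e = 1
  · refine Or.inr fun s hs hs0 => ?_
    obtain ⟨n, hn, hidem⟩ := exists_pow_idempotent s
    rcases htriv _ (pow_mem hs n) hidem with h | h
    · exact absurd (scalars_reduced hirr hU hUc hs ⟨n, h⟩) hs0
    · refine ⟨s ^ (n - 1), pow_mem hs _, ?_⟩
      rw [← pow_succ', show n - 1 + 1 = n by omega, h]
  refine Or.inl ?_
  push Not at htriv
  obtain ⟨f, hf, hff, hf0, hf1⟩ := htriv
  obtain ⟨e, he, hmin⟩ := Set.exists_min_image
    {e : AddMonoid.End V | e ∈ scalars V U ∧ e * e = e ∧ e ≠ 0}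
    (fun e : AddMonoid.End V => Nat.card (AddMonoidHom.range (e : V →+ V))) (Set.toFinite _) ⟨f, hf, hff, hf0⟩
  obtain ⟨heS, hee, he0⟩ := he
  refine tri_of_idempotent hA hcard hL hG hirr hU hUc heS hee he0 (fun h1 => ?_) fun g hg hgg hge => ?_
  · -- otherwise `f` would be everything
    have h := hmin f ⟨hf, hff, hf0⟩
    refine hf1 (DFunLike.ext _ _ fun v => ?_)
    have htop : AddMonoidHom.range (f : V →+ V) = ⊤ := by
      refine AddSubgroup.eq_top_of_card_eq _ (le_antisymm (Nat.card_le_card_of_injective _ Subtype.val_injective) ?_)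
      refine le_trans (le_of_eq ?_) h
      rw [h1]
      exact Nat.card_congr
        { toFun := fun x => ⟨x, x, rfl⟩, invFun := Subtype.val, left_inv := fun x => rfl, right_inv := fun x => rfl }
    obtain ⟨w, rfl⟩ : v ∈ AddMonoidHom.range (f : V →+ V) := by rw [htop]; trivial
    exact DFunLike.congr_fun hff w
  · by_contra hno
    push Not at hno
    have hle : AddMonoidHom.range (g : V →+ V) ≤ AddMonoidHom.range (e : V →+ V) := by
      rintro _ ⟨v, rfl⟩
      exact ⟨g v, DFunLike.congr_fun ((scalars_comm hUc heS hg).trans hge) v⟩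
    have heq : AddMonoidHom.range (g : V →+ V) = AddMonoidHom.range (e : V →+ V) :=
      AddSubgroup.eq_of_le_of_card_ge hle (hmin g ⟨hg, hgg, hno.1⟩)
    refine hno.2 (DFunLike.ext _ _ fun v => ?_)
    obtain ⟨w, hw⟩ : e v ∈ AddMonoidHom.range (g : V →+ V) := by rw [heq]; exact ⟨v, rfl⟩
    have h : g (e v) = e v := by rw [← hw]; exact DFunLike.congr_fun hgg w
    rw [show g (e v) = (g * e) v from rfl, hge] at h
    exact h

end CfsgLib.BaseThree
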