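import Cfsg.Agent.Lib.BaseTwo.Monomial
import Cfsg.Agent.Lib.BaseThree.Basic

/-!
Monomial coordinates over a semiregular subgroup `K` in a normal subgroup of an irreducible solvable group.
-/

set_option autoImplicit false
set_option linter.unusedSectionVars false
set_option linter.style.haveILetI false

namespace CfsgLib.BaseThree

open CfsgLib.BaseTwo (Inv endo scalars endo_mem_scalars commute_of_mem_scalars FieldCase zp zp_zero zp_add
  zp_inj zp_mem dot dot_comm dot_add dot_add_right dot_single dot_zero eq_of_dot)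

universe u

variable {A V : Type u} [Group A] [Finite A] [AddCommGroup V] [Finite V] [DistribMulAction A V]

/-- monomial coordinates in a normal subgroup `E` -/
structure Data (A V : Type u) [Group A] [AddCommGroup V] [DistribMulAction A V] (U : Subgroup A) (r d : ℕ) where
  ζ : A
  E : Subgroup A
  K : Subgroup A
  X : (Fin d → ZMod r) → A
  Y : (Fin d → ZMod r) → A
  order : orderOf ζ = r
  zmem : ζ ∈ U
  normal : E.Normal
  le : U ≤ K
  leE : K ≤ E
  centU : ∀ e ∈ E, ∀ x ∈ U, e * x = x * e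
  memX : ∀ b, X b ∈ E
  memY : ∀ a, Y a ∈ E
  addX : ∀ b b', X (b + b') = X b * X b'
  addY : ∀ a a', Y (a + a') = Y a * Y a'
  rel : ∀ b a, X b * Y a = zp ζ (dot b a) * (Y a * X b)
  commX : ∀ k ∈ K, ∀ b, k * X b = X b * k
  commY : ∀ k ∈ K, ∀ a, k * Y a = Y a * k
  gen : ∀ g ∈ E, ∃ k ∈ K, ∃ a b, g = k * (Y a * X b)
  semireg : ∀ k ∈ K, ∀ v : V, v ≠ 0 → k • v = v → k = 1

namespace Data

variable {U : Subgroup A} {r d : ℕ} [Fact r.Prime] (F : FieldCase A V U) (D : Data A V U r d)

/-- the scalar `ζ^c` -/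
abbrev sc (c : ZMod r) : A := zp D.ζ c

/-- the common fixed space of the `X` -/
def W (D : Data A V U r d) : AddSubgroup V where
  carrier := {v | ∀ b, D.X b • v = v}
  zero_mem' := fun b => smul_zero _
  add_mem' := fun {x y} hx hy b => by rw [smul_add, hx b, hy b]
  neg_mem' := fun {x} hx b => by rw [smul_neg, hx b]

include D

theorem zeta_pow : D.ζ ^ r = 1 := by
  have h := pow_orderOf_eq_one D.ζ
  rwa [D.order] at h

theorem sc_mem (c : ZMod r) : D.sc c ∈ U := zp_mem D.zmem c

theorem sc_add (a b : ZMod r) : D.sc (a + b) = D.sc a * D.sc b := zp_add D.zeta_pow a b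

theorem sc_smul_add (a b : ZMod r) (v : V) : D.sc (a + b) • v = D.sc a • D.sc b • v := by
  rw [D.sc_add, mul_smul]

theorem sc_inj {a b : ZMod r} (h : D.sc a = D.sc b) : a = b := zp_inj D.order h

theorem sc_comm (c : ZMod r) {g : A} (hg : g ∈ D.E) : g * D.sc c = D.sc c * g := D.centU g hg _ (D.sc_mem c)

theorem X_zero : D.X 0 = 1 := by
  have h := D.addX 0 0; rw [add_zero] at h; exact mul_eq_left.1 h.symm

theorem Y_zero : D.Y 0 = 1 := by
  have h := D.addY 0 0; rw [add_zero] at h; exact mul_eq_left.1 h.symm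

theorem smul_rel (b a : Fin (d) → ZMod r) (v : V) :
    D.X b • D.Y a • v = D.sc (dot b a) • D.Y a • D.X b • v := by
  rw [← mul_smul, D.rel, mul_smul, mul_smul]

theorem smul_W {v : V} (hv : v ∈ D.W) (b a : Fin (d) → ZMod r) :
    D.X b • D.Y a • v = D.sc (dot b a) • D.Y a • v := by
  rw [D.smul_rel, hv b]

theorem W_sc {v : V} (hv : v ∈ D.W) (c : ZMod r) : D.sc c • v ∈ D.W := fun b => by
  rw [← mul_smul, D.sc_comm c (D.memX b), mul_smul, hv b]

theorem W_scalar {v : V} (hv : v ∈ D.W) {s : AddMonoid.End V} (hs : s ∈ scalars V U) : s v ∈ D.W := fun b => by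
  have h := commute_of_mem_scalars (f := endo A V (D.X b))
    (fun u hu => by rw [← map_mul, ← map_mul, D.centU _ (D.memX b) u hu]) hs
  calc D.X b • s v = (endo A V (D.X b) * s) v := rfl
    _ = (s * endo A V (D.X b)) v := by rw [h]
    _ = s (D.X b • v) := rfl
    _ = s v := by rw [hv b]

include F

theorem card_smul_eq_zero {v : V} (h : r • v = 0) : v = 0 := by
  classical
  by_contra hv
  have hr := (Fact.out : r.Prime)
  haveI : Fintype V := Fintype.ofFinite V
  have hdvd : r ∣ Nat.card {x : V // r • x = 0} := by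
    let K : AddSubgroup V := (nsmulAddMonoidHom r : V →+ V).ker
    have : addOrderOf (⟨v, h⟩ : K) = r := by
      refine addOrderOf_eq_prime ?_ fun e => hv (congrArg Subtype.val e)
      exact Subtype.ext (by simpa using h)
    have h2 : addOrderOf (⟨v, h⟩ : K) ∣ Nat.card K := addOrderOf_dvd_natCard _
    rw [this] at h2
    exact h2
  letI : MulAction (Subgroup.zpowers D.ζ) {x : V // r • x = 0} :=
    { smul := fun g x => ⟨(g : A) • (x : V), (map_nsmul (DistribSMul.toAddMonoidHom V (g : A)) r (x : V)).symm.trans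
        (by rw [x.2, map_zero])⟩
      one_smul := fun x => Subtype.ext (one_smul A (x : V))
      mul_smul := fun a b x => Subtype.ext (mul_smul (a : A) b (x : V)) }
  have hP : IsPGroup r (Subgroup.zpowers D.ζ) :=
    IsPGroup.of_card (n := 1) (by rw [Nat.card_zpowers, D.order, pow_one])
  obtain ⟨x, hx, hx0⟩ := hP.exists_fixed_point_of_prime_dvd_card_of_fixed_point
    {x : V // r • x = 0} hdvd (a := ⟨0, nsmul_zero r⟩)
    (fun g => Subtype.ext (smul_zero (g : A)))
  have hfix : D.ζ • (x : V) = x := congrArg Subtype.val (hx ⟨D.ζ, Subgroup.mem_zpowers _⟩)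
  exact hx0 (Subtype.ext (F.eq_zero_of_smul_eq D.zmem (fun e => hr.ne_one (by
    rw [← D.order, e, orderOf_one])) hfix).symm)

theorem pow_smul_eq_zero : ∀ (n : ℕ) {v : V}, r ^ n • v = 0 → v = 0
  | 0, v, h => by simpa using h
  | n + 1, v, h => pow_smul_eq_zero n (D.card_smul_eq_zero F (by rwa [← mul_nsmul, ← pow_succ]))

theorem char_sum {b : Fin (d) → ZMod r} (v : V) :
    ∑ a : Fin (d) → ZMod r, D.sc (dot b a) • v =
      if b = 0 then (r ^ d) • v else 0 := by
  classical
  split_ifs with hb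
  · subst hb
    simp [dot, Data.sc, zp_zero, ZMod.card]
  obtain ⟨k, hk⟩ : ∃ k, b k ≠ 0 := by
    by_contra hno
    push Not at hno
    exact hb (funext hno)
  refine F.eq_zero_of_smul_eq (D.sc_mem (b k)) (fun e => hk (D.sc_inj (e.trans (zp_zero _).symm))) ?_
  rw [Finset.smul_sum]
  conv_rhs => rw [← Equiv.sum_comp (Equiv.addLeft (Pi.single k 1 : Fin (d) → ZMod r))]
  refine Finset.sum_congr rfl fun a _ => ?_
  rw [Equiv.coe_addLeft, dot_add_right, dot_single, D.sc_smul_add]

/-- the projection onto one eigenspace, up to a factor -/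
theorem proj_Y {w : V} (hw : w ∈ D.W) (a a' : Fin (d) → ZMod r) :
    ∑ b : Fin (d) → ZMod r, D.sc (-dot b a) • D.X b • D.Y a' • w =
      if a' = a then (r ^ d) • D.Y a' • w else 0 := by
  classical
  have h : ∀ b : Fin (d) → ZMod r, D.sc (-dot b a) • D.X b • D.Y a' • w =
      D.sc (dot (a' - a) b) • D.Y a' • w := fun b => by
    rw [D.smul_W hw, ← D.sc_smul_add, dot_comm b a, dot_comm b a']
    congr 2
    simp [dot, sub_mul, Finset.sum_sub_distrib]
    ring
  rw [Finset.sum_congr rfl fun b _ => h b, D.char_sum F]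
  simp [sub_eq_zero]

theorem uniq {w w' : (Fin d → ZMod r) → V} (hw : ∀ a, w a ∈ D.W) (hw' : ∀ a, w' a ∈ D.W)
    (h : ∑ a, D.Y a • w a = ∑ a, D.Y a • w' a) (a : Fin (d) → ZMod r) : w a = w' a := by
  classical
  have key : ∀ w : (Fin d → ZMod r) → V, (∀ a, w a ∈ D.W) →
      ∑ b : Fin (d) → ZMod r, D.sc (-dot b a) • D.X b • (∑ a', D.Y a' • w a') =
        (r ^ d) • D.Y a • w a := by
    intro w hw
    simp only [Finset.smul_sum]
    rw [Finset.sum_comm, Finset.sum_congr rfl fun a' _ => D.proj_Y F (hw a') a a']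
    simp
  have e := key w hw
  rw [h, key w' hw'] at e
  have e' := D.pow_smul_eq_zero F d (v := D.Y a • w a - D.Y a • w' a) (by
    rw [smul_sub, e, sub_self])
  rw [← smul_sub, smul_eq_zero_iff_eq, sub_eq_zero] at e'
  exact e'

theorem exists_decomp (v : V) : ∃ w : (Fin d → ZMod r) → V, (∀ a, w a ∈ D.W) ∧
    v = ∑ a, D.Y a • w a := by
  classical
  obtain ⟨v', hv'⟩ : ∃ v', r ^ d • v' = v := by
    have hinj : Function.Injective fun x : V => r ^ d • x := fun x y h =>
      sub_eq_zero.1 (D.pow_smul_eq_zero F _ (by rw [smul_sub]; exact sub_eq_zero.2 h))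
    exact (Finite.injective_iff_surjective.1 hinj) v
  let P : (Fin d → ZMod r) → V := fun a => ∑ b, D.sc (-dot b a) • D.X b • v'
  have hP : ∀ a b', D.X b' • P a = D.sc (dot b' a) • P a := by
    intro a b'
    simp only [P, Finset.smul_sum]
    conv_rhs => rw [← Equiv.sum_comp (Equiv.addLeft b')]
    refine Finset.sum_congr rfl fun b _ => ?_
    rw [Equiv.coe_addLeft, D.addX, mul_smul, ← mul_smul (D.X b'), D.sc_comm _ (D.memX b'), mul_smul,
      ← D.sc_smul_add]
    congr 2
    rw [dot_add]; ring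
  refine ⟨fun a => D.Y (-a) • P a, fun a b => ?_, ?_⟩
  · rw [D.smul_rel, hP, ← mul_smul (D.Y (-a)), D.sc_comm _ (D.memY _), mul_smul, ← D.sc_smul_add,
      ← dot_add_right, neg_add_cancel, dot_zero, show D.sc (0 : ZMod r) = 1 from zp_zero _, one_smul]
  · have : ∀ a, D.Y a • D.Y (-a) • P a = P a := fun a => by
      rw [← mul_smul, ← D.addY, add_neg_cancel, D.Y_zero, one_smul]
    simp only [this, P]
    rw [Finset.sum_comm]
    have h2 : ∀ b : Fin (d) → ZMod r, ∑ a, D.sc (-dot b a) • D.X b • v' =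
        if -b = 0 then (r ^ d) • D.X b • v' else 0 := fun b => by
      rw [← D.char_sum F (b := -b) (D.X b • v')]
      exact Finset.sum_congr rfl fun a _ => by congr 2; simp [dot]
    rw [Finset.sum_congr rfl fun b _ => h2 b]
    simp only [neg_eq_zero, Finset.sum_ite_eq', Finset.mem_univ, if_true]
    rw [D.X_zero, one_smul, hv']

theorem block_zero {a : Fin (d) → ZMod r} {u u' : V} (hu : u ∈ D.W) (hu' : u' ∈ D.W) (h0 : u ≠ 0)
    (h : D.Y a • u = u') : a = 0 := by
  classical
  by_contra ha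
  have e : ∀ (c : Fin (d) → ZMod r) (x : V), ∑ b, D.Y b • (Pi.single c x : _ → V) b = D.Y c • x := fun c x => by
    rw [Finset.sum_eq_single c (fun b _ hb => by rw [Pi.single_eq_of_ne hb, smul_zero])
      (fun h => absurd (Finset.mem_univ _) h), Pi.single_eq_same]
  have hmem : ∀ (c : Fin (d) → ZMod r) (x : V), x ∈ D.W → ∀ b, (Pi.single c x : _ → V) b ∈ D.W :=
    fun c x hx b => by
      by_cases hb : b = c
      · subst hb; rw [Pi.single_eq_same]; exact hx
      · rw [Pi.single_eq_of_ne hb]; exact zero_mem _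
  have := D.uniq F (hmem a u hu) (hmem 0 u' hu') (by rw [e, e, D.Y_zero, one_smul, h]) a
  rw [Pi.single_eq_same, Pi.single_eq_of_ne ha] at this
  exact h0 this

omit F in
theorem W_K {v : V} (hv : v ∈ D.W) {k : A} (hk : k ∈ D.K) : k • v ∈ D.W := fun b => by
  rw [← mul_smul, ← D.commX k hk, mul_smul, hv b]

omit F in
theorem sc_commK (c : ZMod r) {k : A} (hk : k ∈ D.K) : k * D.sc c = D.sc c * k := D.sc_comm c (D.leE hk)

omit F in
theorem norm_unique {k k' : A} (hk : k ∈ D.K) (hk' : k' ∈ D.K) {a a' b b' : Fin d → ZMod r}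
    (h : k * (D.Y a * D.X b) = k' * (D.Y a' * D.X b')) : k = k' ∧ a = a' ∧ b = b' := by
  have cx : ∀ k ∈ D.K, ∀ (a b β : Fin d → ZMod r),
      D.X β * (k * (D.Y a * D.X b)) = D.sc (dot β a) * ((k * (D.Y a * D.X b)) * D.X β) := by
    intro k hk a b β
    calc D.X β * (k * (D.Y a * D.X b)) = k * ((D.X β * D.Y a) * D.X b) := by
          rw [← mul_assoc, ← D.commX k hk]; simp only [mul_assoc]
      _ = (k * D.sc (dot β a)) * (D.Y a * (D.X β * D.X b)) := by rw [D.rel]; simp only [mul_assoc]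
      _ = _ := by rw [D.sc_commK _ hk, ← D.addX, add_comm β b, D.addX]; simp only [mul_assoc]
  have cy : ∀ k ∈ D.K, ∀ (a b α : Fin d → ZMod r),
      k * (D.Y a * D.X b) * D.Y α = D.sc (dot b α) * (D.Y α * (k * (D.Y a * D.X b))) := by
    intro k hk a b α
    calc k * (D.Y a * D.X b) * D.Y α = k * (D.Y a * (D.X b * D.Y α)) := by simp only [mul_assoc]
      _ = k * (D.Y a * D.sc (dot b α)) * (D.Y α * D.X b) := by rw [D.rel]; simp only [mul_assoc]
      _ = (k * D.sc (dot b α)) * ((D.Y a * D.Y α) * D.X b) := by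
          rw [D.sc_comm _ (D.memY a)]; simp only [mul_assoc]
      _ = _ := by
          rw [D.sc_commK _ hk, ← mul_assoc (D.Y α) k, ← D.commY k hk, ← D.addY, add_comm a α, D.addY]
          simp only [mul_assoc]
  have ea : a = a' := by
    refine eq_of_dot fun β => ?_
    have h1 := cx k hk a b β
    rw [h, cx k' hk' a' b' β] at h1
    rw [dot_comm a, dot_comm a']
    exact (D.sc_inj (mul_right_cancel h1)).symm
  have eb : b = b' := by
    refine eq_of_dot fun α => ?_
    have h1 := cy k hk a b α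
    rw [h, cy k' hk' a' b' α] at h1
    exact (D.sc_inj (mul_right_cancel h1)).symm
  subst ea eb
  exact ⟨mul_right_cancel h, rfl, rfl⟩

/-- an element of `E` is determined modulo the `X` by its value at a vector of `W` -/
theorem eq_mul_X {u₀ : V} (hu₀ : u₀ ∈ D.W) (h0 : u₀ ≠ 0) {e k : A} (he : e ∈ D.E) (hk : k ∈ D.K)
    (h : e • u₀ = k • u₀) : ∃ b, e = k * D.X b := by
  obtain ⟨k', hk', a, b, rfl⟩ := D.gen e he
  rw [mul_smul, mul_smul, hu₀ b] at h
  have h1 : D.Y a • u₀ = (k'⁻¹ * k) • u₀ := by rw [mul_smul, ← h, inv_smul_smul]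
  have ha := D.block_zero F hu₀ (D.W_K hu₀ (mul_mem (inv_mem hk') hk)) h0 h1
  subst ha
  rw [D.Y_zero, one_smul] at h1
  have := D.semireg _ (mul_mem (inv_mem hk') hk) u₀ h0 h1.symm
  exact ⟨b, by rw [inv_mul_eq_one.1 this, D.Y_zero, one_mul]⟩

theorem W_ne_bot : D.W ≠ ⊥ := by
  intro e
  obtain ⟨v, hv⟩ := F.nt
  obtain ⟨w, hw, rfl⟩ := D.exists_decomp F v
  refine hv (Finset.sum_eq_zero fun a _ => ?_)
  have := hw a
  rw [e, AddSubgroup.mem_bot] at this
  rw [this, smul_zero]

end Data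

end CfsgLib.BaseThree
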