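import Cfsg.Agent.Lib.BaseThree.Data

/-!
Three vectors from monomial coordinates: the labelling of the blocks.
-/

set_option autoImplicit false
set_option linter.unusedSectionVars false
set_option linter.style.haveILetI false

namespace CfsgLib.BaseThree

open CfsgLib.BaseTwo (Inv endo conjEnd conjEnd_apply scalars endo_mem_scalars conjEnd_mem_scalars FieldCase zp zp_mem
  zp_zero dot dot_comm dot_add dot_add_right dot_single dot_zero eq_of_dot)

universe u

section vectors

variable {r d : ℕ}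

/-- the first basis vector, zero in dimension zero -/
def eFirst (r d : ℕ) : Fin d → ZMod r := fun i => if (i : ℕ) = 0 then 1 else 0

/-- the other basis vectors -/
def setA (r d : ℕ) : Set (Fin d → ZMod r) := {a | ∃ k : Fin d, (k : ℕ) ≠ 0 ∧ a = Pi.single k 1}

/-- sums of two consecutive basis vectors -/
def setB (r d : ℕ) : Set (Fin d → ZMod r) :=
  {a | ∃ i j : Fin d, (j : ℕ) = (i : ℕ) + 1 ∧ a = Pi.single i 1 + Pi.single j 1}

/-- further vectors which control the form -/
def setC (r d : ℕ) : Set (Fin d → ZMod r) :=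
  {a | (∃ i j : Fin d, i ≠ j ∧ a = Pi.single i 1 + Pi.single j 1) ∨ ∃ k : Fin d, a = -Pi.single k 1}

theorem eFirst_eq {k : Fin d} (hk : (k : ℕ) = 0) : eFirst r d = Pi.single k 1 := by
  funext i
  by_cases hi : i = k
  · subst hi; simp [eFirst, hk]
  · have : (i : ℕ) ≠ 0 := fun e => hi (Fin.ext (e.trans hk.symm))
    simp [eFirst, hi, this]

variable [Fact r.Prime]

theorem eFirst_ne (hd : 1 ≤ d) : eFirst r d ≠ 0 := fun h => by
  have := congrFun h ⟨0, hd⟩
  simp [eFirst] at this

theorem setA_props {a : Fin d → ZMod r} (ha : a ∈ setA r d) : a ≠ 0 ∧ a ≠ eFirst r d := by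
  obtain ⟨k, hk, rfl⟩ := ha
  refine ⟨fun h => ?_, fun h => ?_⟩
  · have := congrFun h k; simp at this
  · have := congrFun h k; simp [eFirst, hk] at this

theorem setB_props {a : Fin d → ZMod r} (ha : a ∈ setB r d) : a ≠ 0 ∧ a ≠ eFirst r d ∧ a ∉ setA r d := by
  obtain ⟨i, j, hij, rfl⟩ := ha
  have hne : i ≠ j := fun e => by subst e; omega
  refine ⟨fun h => ?_, fun h => ?_, ?_⟩
  · have := congrFun h i; simp [hne] at this
  · have := congrFun h j; simp [hne.symm, eFirst, show (j : ℕ) ≠ 0 by omega] at this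
  · rintro ⟨k, -, h⟩
    have h1 := congrFun h i
    have h2 := congrFun h j
    by_cases hik : i = k
    · subst hik; simp [hne.symm] at h2
    · simp [hne, hik] at h1

theorem setC_props {a : Fin d → ZMod r} (ha : a ∈ setC r d) : a ≠ 0 := by
  rcases ha with ⟨i, j, hij, rfl⟩ | ⟨k, rfl⟩
  · intro h; have := congrFun h i; simp [hij] at this
  · intro h; have := congrFun h k; simp at this

theorem mem_of_singles {S : AddSubgroup (Fin d → ZMod r)} (h : ∀ k, Pi.single k 1 ∈ S) (a : Fin d → ZMod r) :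
    a ∈ S := by
  haveI : NeZero r := ⟨(Fact.out : r.Prime).ne_zero⟩
  rw [← Finset.univ_sum_single a]
  refine sum_mem fun k _ => ?_
  have : (Pi.single k (a k) : Fin d → ZMod r) = (a k).val • (Pi.single k 1 : Fin d → ZMod r) := by
    funext l
    by_cases hl : l = k
    · subst hl; simp
    · simp [hl]
  rw [this]
  exact nsmul_mem (h k) _

/-- an additive injection respecting the labels fixes everything -/
theorem eq_id_of_labels (τ : (Fin d → ZMod r) →+ (Fin d → ZMod r)) (hinj : Function.Injective τ)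
    (h0 : 1 ≤ d → τ (eFirst r d) = eFirst r d) (hA : ∀ a ∈ setA r d, τ a ∈ setA r d)
    (hB : ∀ a ∈ setB r d, τ a ∈ setB r d) (a : Fin d → ZMod r) : τ a = a := by
  have key : ∀ n : ℕ, ∀ k : Fin d, (k : ℕ) = n → τ (Pi.single k 1) = Pi.single k 1 := by
    intro n
    induction n using Nat.strong_induction_on with
    | _ n ih =>
      intro k hk
      rcases Nat.eq_zero_or_pos n with rfl | hn
      · have h := h0 (lt_of_le_of_lt (Nat.zero_le _) k.2)
        rwa [eFirst_eq hk] at h
      obtain ⟨l, hl0, hl⟩ := hA _ ⟨k, by omega, rfl⟩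
      let k' : Fin d := ⟨n - 1, by omega⟩
      have hk' : τ (Pi.single k' 1) = Pi.single k' 1 := ih (n - 1) (by omega) k' rfl
      obtain ⟨i, j, hij, h⟩ := hB _ ⟨k', k, by simp only [k']; omega, rfl⟩
      rw [map_add, hk', hl] at h
      have hne : i ≠ j := fun e => by subst e; omega
      have hlk : l ≠ k' := fun e => by
        have := hinj (hl.trans ((congrArg (fun t => (Pi.single t 1 : Fin d → ZMod r)) e).trans hk'.symm))
        have hkk : k ≠ k' := fun e' => by have := congrArg Fin.val e'; simp only [k'] at this; omega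
        have h2 := congrFun this k
        simp [hkk] at h2
      have hi : i = k' ∨ i = l := by
        by_contra hno
        push Not at hno
        have := congrFun h i
        simp [hno.1, hno.2, hne] at this
      have hj : j = k' ∨ j = l := by
        by_contra hno
        push Not at hno
        have := congrFun h j
        simp [hno.1, hno.2, hne.symm] at this
      rcases hi with rfl | rfl
      · rcases hj with rfl | rfl
        · exact absurd rfl hne
        · rw [hl, show j = k from Fin.ext (by simp only [k'] at hij; omega)]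
      · rcases hj with rfl | rfl
        · exfalso
          simp only [k'] at hij
          have hfix := ih (i : ℕ) (by omega) i rfl
          have h2 := congrFun (hinj (hl.trans hfix.symm)) k
          have : k ≠ i := fun e => by subst e; omega
          simp [this] at h2
        · exact absurd rfl hne
  exact mem_of_singles (S := AddMonoidHom.eqLocus τ (AddMonoidHom.id _)) (fun k => key k k rfl) a

end vectors

variable {A V : Type u} [Group A] [Finite A] [AddCommGroup V] [Finite V] [DistribMulAction A V]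

/-- monomial coordinates and a good triple in `W` give three vectors -/
theorem tri_of_data {U : Subgroup A} {r d : ℕ} [Fact r.Prime] (F : FieldCase A V U) (D : Data A V U r d)
    {u₀ w₀ w₁ : V} (hu₀ : u₀ ∈ D.W) (h00 : u₀ ≠ 0) (hw₀ : w₀ ∈ D.W) (hw₁ : w₁ ∈ D.W)
    (hK : ∀ g : A, g • u₀ = u₀ → g • w₀ = w₀ → g • w₁ = w₁ → (1 ≤ d → ∀ x ∈ U, g * x * g⁻¹ = x) →
      ∀ k ∈ D.K, ∃ b, g * k * g⁻¹ = k * D.X b)
    (hB : ∀ g ∈ Subgroup.centralizer (D.E : Set A), g • u₀ = u₀ → g • w₀ = w₀ → g • w₁ = w₁ →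
      ∀ x ∈ D.W, g • x = x) :
    TriOn (⊤ : Subgroup A) (⊤ : AddSubgroup V) := by
  classical
  haveI := D.normal
  obtain ⟨γ, hγ, hγ0, hγgen⟩ := F.exists_units_generator
  let e₀ := eFirst r d
  let fam2 : (Fin d → ZMod r) → V := fun a => if a = 0 then w₀ else if a = e₀ then γ u₀
    else if a ∈ setA r d then u₀ else if a ∈ setB r d then 0 else if a ∈ setC r d then u₀ else 0
  let fam3 : (Fin d → ZMod r) → V := fun a => if a = 0 then w₁ else if a = e₀ then u₀
    else if a ∈ setA r d then 0 else if a ∈ setB r d then u₀ else if a ∈ setC r d then u₀ else 0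
  have hγu : γ u₀ ≠ 0 := fun h => hγ0 (F.eq_zero_of_apply hγ h00 h)
  have hγne : γ u₀ ≠ u₀ := by
    intro h
    have hγ1 : γ = 1 := sub_eq_zero.1
      (F.eq_zero_of_apply (sub_mem hγ (one_mem _)) h00 (show γ u₀ - u₀ = 0 by rw [h, sub_self]))
    have hz : endo A V D.ζ ≠ 0 := fun e => h00 (by
      have := DFunLike.congr_fun e u₀
      exact (smul_eq_zero_iff_eq _).1 this)
    obtain ⟨n, hn⟩ := hγgen _ (endo_mem_scalars D.zmem) hz
    rw [hγ1, one_pow] at hn
    have h1 : D.ζ = 1 := F.endo_inj (hn.trans (map_one _).symm)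
    have := D.order
    rw [h1, orderOf_one] at this
    exact (Fact.out : r.Prime).ne_one this.symm
  have hfam2 : ∀ a, fam2 a ∈ D.W := fun a => by
    simp only [fam2]
    split_ifs <;> first | exact hw₀ | exact hu₀ | exact D.W_scalar hu₀ hγ | exact zero_mem _
  have hfam3 : ∀ a, fam3 a ∈ D.W := fun a => by
    simp only [fam3]
    split_ifs <;> first | exact hw₁ | exact hu₀ | exact zero_mem _
  refine ⟨![u₀, ∑ a, D.Y a • fam2 a, ∑ a, D.Y a • fam3 a], fun _ => trivial, fun g _ hfix v _ => ?_⟩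
  have hgu : g • u₀ = u₀ := hfix 0
  have hg2 : g • ∑ a, D.Y a • fam2 a = ∑ a, D.Y a • fam2 a := hfix 1
  have hg3 : g • ∑ a, D.Y a • fam3 a = ∑ a, D.Y a • fam3 a := hfix 2
  have hginv : g⁻¹ • u₀ = u₀ := inv_smul_eq_iff.2 hgu.symm
  have hXfix : ∀ h : A, h • u₀ = u₀ → ∀ b, ∃ b', h * D.X b * h⁻¹ = D.X b' := by
    intro h hh b
    obtain ⟨b', e⟩ := D.eq_mul_X F hu₀ h00 (D.normal.conj_mem _ (D.memX b) h) (one_mem D.K) (by
      rw [one_smul, mul_smul, mul_smul, show h⁻¹ • u₀ = u₀ from inv_smul_eq_iff.2 hh.symm, hu₀ b, hh])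
    exact ⟨b', by rw [e, one_mul]⟩
  have hgW : ∀ h : A, h • u₀ = u₀ → ∀ x ∈ D.W, h • x ∈ D.W := by
    intro h hh x hx b
    obtain ⟨b', e⟩ := hXfix h⁻¹ (inv_smul_eq_iff.2 hh.symm) b
    rw [inv_inv] at e
    rw [show D.X b = h * D.X b' * h⁻¹ by rw [← e]; group, ← mul_smul,
      show h * D.X b' * h⁻¹ * h = h * D.X b' by group, mul_smul, hx b']
  choose κ hκK τ β hτ using fun a => D.gen _ (D.normal.conj_mem _ (D.memY a) g)
  have hmove : ∀ a, ∀ x ∈ D.W, g • D.Y a • x = D.Y (τ a) • κ a • g • x := by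
    intro a x hx
    rw [show g • D.Y a • x = (g * D.Y a * g⁻¹) • g • x by rw [mul_smul, mul_smul, inv_smul_smul], hτ,
      mul_smul, mul_smul, hgW g hgu x hx (β a), ← mul_smul, D.commY _ (hκK a), mul_smul]
  have hadd : ∀ a b, κ (a + b) = κ a * κ b * D.sc (dot (β a) (τ b)) ∧ τ (a + b) = τ a + τ b ∧
      β (a + b) = β a + β b := by
    intro a b
    refine D.norm_unique (hκK _)
      (mul_mem (mul_mem (hκK _) (hκK _)) (D.le (zp_mem D.zmem _))) ?_
    rw [← hτ, D.addY, show g * (D.Y a * D.Y b) * g⁻¹ = (g * D.Y a * g⁻¹) * (g * D.Y b * g⁻¹) by group, hτ, hτ]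
    calc κ a * (D.Y (τ a) * D.X (β a)) * (κ b * (D.Y (τ b) * D.X (β b)))
        = κ a * (D.Y (τ a) * (D.X (β a) * κ b)) * (D.Y (τ b) * D.X (β b)) := by simp only [mul_assoc]
      _ = κ a * ((D.Y (τ a) * κ b) * (D.X (β a) * D.Y (τ b)) * D.X (β b)) := by
          rw [← D.commX _ (hκK b)]; simp only [mul_assoc]
      _ = κ a * κ b * ((D.Y (τ a) * D.sc (dot (β a) (τ b))) * (D.Y (τ b) * (D.X (β a) * D.X (β b)))) := by
          rw [← D.commY _ (hκK b), D.rel]; simp only [mul_assoc]
      _ = κ a * κ b * D.sc (dot (β a) (τ b)) * ((D.Y (τ a) * D.Y (τ b)) * (D.X (β a) * D.X (β b))) := by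
          rw [D.sc_comm _ (D.memY _)]; simp only [mul_assoc]
      _ = _ := by rw [← D.addX, ← D.addY]
  let τh : (Fin d → ZMod r) →+ (Fin d → ZMod r) := AddMonoidHom.mk' τ fun a b => (hadd a b).2.1
  let βh : (Fin d → ZMod r) →+ (Fin d → ZMod r) := AddMonoidHom.mk' β fun a b => (hadd a b).2.2
  have τinj : Function.Injective τ := by
    refine (injective_iff_map_eq_zero τh).2 fun a ha => ?_
    have h := hmove a u₀ hu₀
    rw [show τ a = 0 from ha, D.Y_zero, one_smul, hgu] at h
    refine D.block_zero F hu₀ (hgW g⁻¹ hginv _ (D.W_K hu₀ (hκK a))) h00 ?_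
    rw [← h, inv_smul_smul]
  -- comparison of the components
  have hcomp : ∀ fam : (Fin d → ZMod r) → V, (∀ a, fam a ∈ D.W) →
      g • (∑ a, D.Y a • fam a) = ∑ a, D.Y a • fam a → ∀ a, κ a • g • fam a = fam (τ a) := by
    intro fam hfam hg a
    have hbij : Function.Bijective τ := ⟨τinj, Finite.injective_iff_surjective.1 τinj⟩
    let eτ := Equiv.ofBijective τ hbij
    let G : (Fin d → ZMod r) → V := fun a => κ a • g • fam a
    have h1 : g • ∑ a, D.Y a • fam a = ∑ a, D.Y a • G (eτ.symm a) := by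
      rw [← Equiv.sum_comp eτ fun a => D.Y a • G (eτ.symm a), Finset.smul_sum]
      refine Finset.sum_congr rfl fun a _ => ?_
      rw [Equiv.symm_apply_apply, hmove a _ (hfam a)]
      rfl
    rw [hg] at h1
    have h2 := D.uniq F hfam (fun a => D.W_K (hgW g hgu _ (hfam _)) (hκK _)) h1 (τ a)
    rw [show eτ.symm (τ a) = a from eτ.symm_apply_apply a] at h2
    exact h2.symm
  have c2 := hcomp fam2 hfam2 hg2
  have c3 := hcomp fam3 hfam3 hg3
  have hκ0 : κ 0 = 1 ∧ τ 0 = 0 := by
    obtain ⟨h1, h2, -⟩ := D.norm_unique (one_mem D.K) (hκK 0) (a := (0 : Fin d → ZMod r)) (a' := τ 0)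
      (b := (0 : Fin d → ZMod r)) (b' := β 0) (by
        rw [← hτ, D.Y_zero, D.X_zero]
        group)
    exact ⟨h1.symm, h2.symm⟩
  have hgw : g • w₀ = w₀ ∧ g • w₁ = w₁ := by
    have h1 := c2 0
    have h2 := c3 0
    simp only [hκ0.2, hκ0.1, one_smul, fam2, fam3, if_true] at h1 h2
    exact ⟨h1, h2⟩
  have hτne : ∀ {a}, a ≠ 0 → τ a ≠ 0 := fun {a} ha e => ha (τinj (e.trans hκ0.2.symm))
  have hmovene : ∀ {a : Fin d → ZMod r} {x : V}, κ a • g • x = 0 → x = 0 := fun h => by
    rwa [smul_eq_zero_iff_eq, smul_eq_zero_iff_eq] at h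
  have hκ1 : ∀ {a : Fin d → ZMod r}, κ a • g • u₀ = u₀ → κ a = 1 := fun {a} h => by
    rw [hgu] at h; exact D.semireg _ (hκK a) u₀ h00 h
  have he0 : 1 ≤ d → τ e₀ = e₀ := by
    intro hd
    have ha : e₀ ≠ 0 := eFirst_ne hd
    have h1 := c2 e₀
    have h2 := c3 e₀
    simp only [fam2, fam3, if_neg ha, if_neg (hτne ha), if_true] at h1 h2
    by_contra hne
    simp only [if_neg hne] at h1 h2
    split_ifs at h1 h2
    · exact h00 (hmovene h2)
    · exact hγu (hmovene h1)
    · rw [hκ1 h2, one_smul] at h1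
      exact hγne (smul_left_cancel g (h1.trans hgu.symm))
    · exact h00 (hmovene h2)
  have hA : ∀ a ∈ setA r d, τ a ∈ setA r d := by
    intro a ha
    obtain ⟨h0, h0'⟩ := setA_props ha
    have h1 := c2 a
    have h2 := c3 a
    have h0'' : a ≠ e₀ := h0'
    simp only [fam2, fam3, if_neg h0, if_neg h0'', if_pos ha, if_neg (hτne h0), smul_zero] at h1 h2
    by_contra hne
    rw [if_neg hne] at h1 h2
    split_ifs at h1 h2
    · exact h00 h2.symm
    · exact h00 h2.symm
    · exact h00 h2.symm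
    · exact h00 (hmovene h1)
  have hBset : ∀ a ∈ setB r d, τ a ∈ setB r d := by
    intro a ha
    obtain ⟨h0, h0', hA'⟩ := setB_props ha
    have h1 := c2 a
    have h2 := c3 a
    have h0'' : a ≠ e₀ := h0'
    simp only [fam2, fam3, if_neg h0, if_neg h0'', if_neg hA', if_pos ha, if_neg (hτne h0), smul_zero] at h1 h2
    by_contra hne
    simp only [if_neg hne] at h1 h2
    split_ifs at h1 h2
    · exact hγu h1.symm
    · exact h00 h1.symm
    · exact h00 h1.symm
    · exact h00 (hmovene h2)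
  have hid : ∀ a, τ a = a := eq_id_of_labels τh τinj he0 hA hBset
  have hκT : ∀ a, a ≠ 0 → (a = e₀ ∨ a ∈ setA r d ∨ a ∈ setB r d ∨ a ∈ setC r d) → κ a = 1 := by
    intro a h0 h
    have h1 := c2 a
    have h2 := c3 a
    rw [hid] at h1 h2
    simp only [fam2, fam3, if_neg h0] at h1 h2
    split_ifs at h1 h2 with p1 p2 p3 p4
    · exact hκ1 h2
    · exact hκ1 h1
    · exact hκ1 h2
    · exact hκ1 h2
    · tauto
  have hgU : 1 ≤ d → ∀ x ∈ U, g * x * g⁻¹ = x := by
    intro hd x hx
    have ha : e₀ ≠ 0 := eFirst_ne hd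
    have h1 := c2 e₀
    rw [hid, hκT _ ha (Or.inl rfl), one_smul] at h1
    simp only [fam2, if_neg ha, if_true] at h1
    have hσ : conjEnd g γ = γ := by
      refine sub_eq_zero.1 (F.eq_zero_of_apply (sub_mem (conjEnd_mem_scalars F.normal g hγ) hγ) h00 ?_)
      show conjEnd g γ u₀ - γ u₀ = 0
      rw [conjEnd_apply, hginv, h1, sub_self]
    refine F.endo_inj (V := V) ?_
    rw [map_mul, map_mul]
    show conjEnd g (endo A V x) = _
    rcases eq_or_ne (endo A V x) 0 with h | h
    · rw [h, map_zero]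
    obtain ⟨n, hn'⟩ := hγgen _ (endo_mem_scalars hx) h
    rw [hn', map_pow, hσ]
  have hκadd : ∀ a b, κ (a + b) = κ a * κ b * D.sc (dot (β a) b) := fun a b => by
    rw [(hadd a b).1, hid]
  have hsingne : ∀ k : Fin d, (Pi.single k 1 : Fin d → ZMod r) ≠ 0 := fun k h => by
    have := congrFun h k; simp at this
  have hκe : ∀ k : Fin d, κ (Pi.single k 1) = 1 := fun k => by
    by_cases hk : (k : ℕ) = 0
    · exact hκT _ (hsingne k) (Or.inl (eFirst_eq hk).symm)
    · exact hκT _ (hsingne k) (Or.inr (Or.inl ⟨k, hk, rfl⟩))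
  have hβ0 : ∀ a, β a = 0 := by
    intro a
    refine mem_of_singles (S := βh.ker) (fun i => funext fun j => ?_) a
    show β (Pi.single i 1) j = 0
    refine D.sc_inj ?_
    rw [← dot_single (β (Pi.single i 1)) j, show D.sc (0 : ZMod r) = 1 from zp_zero _]
    by_cases hij : i = j
    · subst hij
      have h := hκadd (Pi.single i 1) (-Pi.single i 1)
      rw [add_neg_cancel, hκ0.1, hκe, hκT _ (neg_ne_zero.2 (hsingne i)) (Or.inr (Or.inr (Or.inr (Or.inr ⟨i, rfl⟩)))),
        one_mul, one_mul, show dot (β (Pi.single i 1)) (-Pi.single i 1) = -dot (β (Pi.single i 1)) (Pi.single i 1)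
          by simp [dot]] at h
      have h2 := D.sc_add (dot (β (Pi.single i 1)) (Pi.single i 1)) (-dot (β (Pi.single i 1)) (Pi.single i 1))
      rw [add_neg_cancel, ← h, mul_one, show D.sc (0 : ZMod r) = 1 from zp_zero _] at h2
      exact h2.symm
    · have h := hκadd (Pi.single i 1) (Pi.single j 1)
      rw [hκe, hκe, one_mul, one_mul] at h
      rw [← h]
      have hC : (Pi.single i 1 + Pi.single j 1 : Fin d → ZMod r) ∈ setC r d := Or.inl ⟨i, j, hij, rfl⟩
      exact hκT _ (setC_props hC) (Or.inr (Or.inr (Or.inr hC)))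
  have hκ : ∀ a, κ a = 1 := by
    let S : AddSubgroup (Fin d → ZMod r) :=
      { carrier := {a | κ a = 1}
        zero_mem' := hκ0.1
        add_mem' := fun {a b} (ha : κ a = 1) (hb : κ b = 1) => by
          show κ (a + b) = 1
          rw [hκadd, ha, hb, hβ0]
          simp [dot, Data.sc, zp_zero]
        neg_mem' := fun {a} (ha : κ a = 1) => by
          show κ (-a) = 1
          have h := hκadd a (-a)
          rw [add_neg_cancel, hκ0.1, ha, hβ0] at h
          simpa [dot, Data.sc, zp_zero] using h.symm }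
    exact mem_of_singles (S := S) hκe
  have hY : ∀ a, g * D.Y a * g⁻¹ = D.Y a := fun a => by
    rw [hτ, hκ, hid, hβ0, D.X_zero, one_mul, mul_one]
  have hKfix : ∀ k ∈ D.K, g * k * g⁻¹ = k := by
    intro k hk
    obtain ⟨b, hb⟩ := hK g hgu hgw.1 hgw.2 hgU k hk
    have hb0 : b = 0 := by
      refine eq_of_dot fun a => D.sc_inj ?_
      have h1 : (k * D.X b) * D.Y a = D.Y a * (k * D.X b) := by
        rw [← hb, ← hY a, show g * k * g⁻¹ * (g * D.Y a * g⁻¹) = g * (k * D.Y a) * g⁻¹ by group,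
          D.commY k hk]
        group
      rw [mul_assoc, D.rel, ← mul_assoc (D.Y a) k, ← D.commY k hk, mul_assoc k (D.Y a)] at h1
      rw [show dot (0 : Fin d → ZMod r) a = 0 by simp [dot], show D.sc (0 : ZMod r) = 1 from zp_zero _]
      exact mul_eq_right.1 (mul_left_cancel h1)
    rw [hb, hb0, D.X_zero, mul_one]
  have hX : ∀ b, g * D.X b * g⁻¹ = D.X b := fun b => by
    obtain ⟨b', hb'⟩ := hXfix g hgu b
    rw [hb']
    congr 1
    refine eq_of_dot fun a => D.sc_inj ?_
    have h1 : g * (D.X b * D.Y a) * g⁻¹ = g * (D.sc (dot b a) * (D.Y a * D.X b)) * g⁻¹ := by rw [D.rel]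
    rw [show g * (D.X b * D.Y a) * g⁻¹ = (g * D.X b * g⁻¹) * (g * D.Y a * g⁻¹) by group,
      show g * (D.sc (dot b a) * (D.Y a * D.X b)) * g⁻¹ =
        (g * D.sc (dot b a) * g⁻¹) * ((g * D.Y a * g⁻¹) * (g * D.X b * g⁻¹)) by group,
      hb', hY, hKfix _ (D.le (zp_mem D.zmem _)), D.rel] at h1
    exact mul_right_cancel h1
  have hgB : g ∈ Subgroup.centralizer (D.E : Set A) := by
    refine Subgroup.mem_centralizer_iff.2 fun x hx => ?_
    obtain ⟨k, hk, a, b, rfl⟩ := D.gen x hx
    have : g * (k * (D.Y a * D.X b)) * g⁻¹ =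
        (g * k * g⁻¹) * ((g * D.Y a * g⁻¹) * (g * D.X b * g⁻¹)) := by group
    rw [hKfix k hk, hX, hY] at this
    exact (mul_inv_eq_iff_eq_mul.1 this).symm
  obtain ⟨w, hw, rfl⟩ := D.exists_decomp F v
  rw [Finset.smul_sum]
  refine Finset.sum_congr rfl fun a _ => ?_
  rw [← mul_smul, ← Subgroup.mem_centralizer_iff.1 hgB _ (D.memY a), mul_smul,
    hB g hgB hgu hgw.1 hgw.2 _ (hw a)]

end CfsgLib.BaseThree
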